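import Cfsg.Agent.BC86.OneNonlin.Count
import Mathlib.GroupTheory.PGroup
import Mathlib.GroupTheory.Nilpotent
import Mathlib.Tactic.LinearCombination
import Mathlib.Data.Nat.Choose.Dvd

/-!
# Camina `p`-groups with a transitive abelian group of operators

If `P ⊴ Γ` is a `p`-group, `Γ` is abelian modulo `P`, is transitive on the nontrivial elements of
`P/P'`, and `z P'` lies in the class of `z` for all `z ∈ P - P'`, then `P` has class at most two and
exponent `p` outside `P'` (`p` odd).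
-/

set_option autoImplicit false

open scoped commutatorElement

namespace Cfsg.Agent.BC86.OneNonlin

variable {Γ : Type*} [Group Γ]

/-- The hypotheses. -/
structure Camina (p : ℕ) (P : Subgroup Γ) : Prop where
  normal : P.Normal
  isPGroup : IsPGroup p P
  comm_le : commutator Γ ≤ P
  pow_mem : ∀ x ∈ P, x ^ p ∈ ⁅P, P⁆
  cls : ∀ z ∈ P, z ∉ ⁅P, P⁆ → ∀ k ∈ ⁅P, P⁆, ∃ y ∈ P, y * z * y⁻¹ = z * k
  trans : ∀ z ∈ P, z ∉ ⁅P, P⁆ → ∀ w ∈ P, w ∉ ⁅P, P⁆ → ∃ y : Γ, w⁻¹ * (y * z * y⁻¹) ∈ ⁅P, P⁆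

theorem Camina.map {p : ℕ} {P : Subgroup Γ} (h : Camina p P) {Q : Type*} [Group Q] (f : Γ →* Q)
    (hf : Function.Surjective f) : Camina p (P.map f) := by
  have hcomm : ⁅P.map f, P.map f⁆ = ⁅P, P⁆.map f := (Subgroup.map_commutator _ _ _).symm
  refine ⟨h.normal.map f hf, h.isPGroup.map f, ?_, ?_, ?_, ?_⟩
  · have : commutator Q = (commutator Γ).map f := by
      rw [commutator_def, commutator_def, Subgroup.map_commutator,
        Subgroup.map_top_of_surjective f hf]
    rw [this]; exact Subgroup.map_mono h.comm_le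
  · rintro _ ⟨x, hx, rfl⟩
    rw [hcomm, ← map_pow]
    exact Subgroup.mem_map_of_mem f (h.pow_mem x hx)
  · rintro _ ⟨z, hz, rfl⟩ hz' _ hk
    rw [hcomm] at hz' hk
    obtain ⟨k, hk, rfl⟩ := hk
    obtain ⟨y, hy, he⟩ := h.cls z hz (fun h => hz' (Subgroup.mem_map_of_mem f h)) k hk
    exact ⟨f y, Subgroup.mem_map_of_mem f hy, by simp only [← map_inv, ← map_mul, he]⟩
  · rintro _ ⟨z, hz, rfl⟩ hz' _ ⟨w, hw, rfl⟩ hw'
    rw [hcomm] at hz' hw' ⊢
    obtain ⟨y, hy⟩ := h.trans z hz (fun h => hz' (Subgroup.mem_map_of_mem f h)) w hw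
      (fun h => hw' (Subgroup.mem_map_of_mem f h))
    exact ⟨f y, by simpa only [map_mul, map_inv] using Subgroup.mem_map_of_mem f hy⟩

variable [Finite Γ]

/-- `P'/⁅P',P⁆` and `⁅P',P⁆` are smaller than `P/P'`. -/
theorem Camina.card_lt {p : ℕ} {P : Subgroup Γ} (h : Camina p P) {z : Γ} (hz : z ∈ P)
    (hz' : z ∉ ⁅P, P⁆) (U : Subgroup Γ) [U.Normal] (hU : U ≤ ⁅P, P⁆)
    (hcen : ⁅⁅P, P⁆, P⁆ ≤ U) :
    Nat.card ↥⁅P, P⁆ * Nat.card ↥⁅P, P⁆ < Nat.card P * Nat.card U := by
  have := h.normal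
  have hPP : ⁅P, P⁆ ≤ P := Subgroup.commutator_le_left P P
  let f := QuotientGroup.mk' U
  have hlt := card_mul_lt (P.map f) (⁅P, P⁆.map f) (⁅P, P⁆.map f) (Subgroup.map_mono hPP)
    (Subgroup.map_mono hPP) (z := f z) (Subgroup.mem_map_of_mem f hz) ?_ ?_ ?_
  · have hU' : (0 : ℕ) < Nat.card U := Nat.card_pos
    have e1 : Nat.card (⁅P, P⁆.map f) * Nat.card U = Nat.card ↥⁅P, P⁆ := card_map_mk' U hU
    have e2 : Nat.card (P.map f) * Nat.card U = Nat.card P := card_map_mk' U (hU.trans hPP)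
    rw [← e1, ← e2]
    calc Nat.card (⁅P, P⁆.map f) * Nat.card U * (Nat.card (⁅P, P⁆.map f) * Nat.card U)
        = Nat.card (⁅P, P⁆.map f) * Nat.card (⁅P, P⁆.map f) * (Nat.card U * Nat.card U) := by ring
      _ < Nat.card (P.map f) * (Nat.card U * Nat.card U) :=
          Nat.mul_lt_mul_of_pos_right hlt (Nat.mul_pos hU' hU')
      _ = _ := by ring
  · rintro ⟨k, hk, he⟩
    rw [QuotientGroup.mk'_eq_mk'] at he
    obtain ⟨u, hu, rfl⟩ := he
    exact hz' (mul_mem hk (hU hu))
  · rintro _ ⟨k, hk, rfl⟩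
    obtain ⟨y, hy, he⟩ := h.cls z hz hz' k hk
    exact ⟨f y, Subgroup.mem_map_of_mem f hy, by simp only [← map_inv, ← map_mul, he]⟩
  · rintro _ ⟨k, hk, rfl⟩
    have : f ⁅k, z⁆ = 1 :=
      (QuotientGroup.eq_one_iff _).mpr (hcen (Subgroup.commutator_mem_commutator hk hz))
    rw [map_commutatorElement] at this
    exact commutatorElement_eq_one_iff_mul_comm.mp this

omit [Finite Γ] in
theorem commutatorElement_mul_central {x y k l : Γ} (hky : Commute k y) (hkl : Commute k l)
    (hlx : Commute l x) (hkxy : Commute k x) (hly : Commute l y) :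
    ⁅x * k, y * l⁆ = ⁅x, y⁆ := by
  simp only [commutatorElement_def]
  calc x * k * (y * l) * (x * k)⁻¹ * (y * l)⁻¹
      = x * (k * y) * l * k⁻¹ * x⁻¹ * l⁻¹ * y⁻¹ := by group
    _ = x * y * (k * l * k⁻¹) * x⁻¹ * l⁻¹ * y⁻¹ := by rw [hky.eq]; group
    _ = x * y * (l * x⁻¹) * l⁻¹ * y⁻¹ := by rw [hkl.eq]; group
    _ = x * y * x⁻¹ * y⁻¹ := by rw [hlx.inv_right.eq]; group

/-- With `⁅⁅P',P⁆,P⁆ = 1`, the class is at most two. -/
theorem Camina.class_le_two_of_class_le_three {p : ℕ} (hp : p.Prime) {P : Subgroup Γ}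
    (h : Camina p P) {z : Γ} (hz : z ∈ P) (hz' : z ∉ ⁅P, P⁆)
    (h4 : ⁅⁅⁅P, P⁆, P⁆, P⁆ = ⊥) : ⁅⁅P, P⁆, P⁆ = ⊥ := by
  classical
  have hfact := Fact.mk hp
  have := h.normal
  set P' := ⁅P, P⁆ with hP'
  set U := ⁅P', P⁆ with hUdef
  have hP'P : P' ≤ P := Subgroup.commutator_le_left P P
  have hUP' : U ≤ P' := Subgroup.commutator_le_left P' P
  have hcenU : ∀ u ∈ U, ∀ x ∈ P, u * x = x * u := fun u hu x hx => by
    have := Subgroup.commutator_mem_commutator hu hx
    rw [h4, Subgroup.mem_bot] at this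
    exact commutatorElement_eq_one_iff_mul_comm.mp this
  have hab : ∀ a ∈ P', ∀ b ∈ P', a * b = b * a := by
    have h5 : ⁅P', P'⁆ = ⊥ := Subgroup.commutator_commutator_eq_bot_of_rotate
      (by rw [Subgroup.commutator_comm P P']; exact h4) h4
    intro a ha b hb
    have := Subgroup.commutator_mem_commutator ha hb
    rw [h5, Subgroup.mem_bot] at this
    exact commutatorElement_eq_one_iff_mul_comm.mp this
  -- sizes
  have hb1 : Nat.card P' * Nat.card U < Nat.card P := by
    refine card_mul_lt P P' U hP'P (hUP'.trans hP'P) hz (fun h => hz' (hUP' h))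
      (fun n hn => h.cls z hz hz' n hn) fun k hk => hcenU k hk z hz
  have hb2 : Nat.card P' * Nat.card P' < Nat.card P * Nat.card U := h.card_lt hz hz' U hUP' le_rfl
  -- the centre part of `P'`
  set W₁ := P' ⊓ Subgroup.centralizer (P : Set Γ) with hW₁
  have hUW : U ≤ W₁ := le_inf hUP' fun u hu => Subgroup.mem_centralizer_iff.mpr
    fun x hx => (hcenU u hu x hx).symm
  rcases eq_or_ne W₁ P' with he | hne
  · refine Subgroup.commutator_eq_bot_iff_le_centralizer.mpr ?_
    calc P' = W₁ := he.symm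
      _ ≤ _ := inf_le_right
  exfalso
  have hW₁n : W₁.Normal := inferInstance
  obtain ⟨W₀, ⟨hW₀n, hlt, hW₀P⟩, hmin⟩ : ∃ W₀ : Subgroup Γ, (W₀.Normal ∧ W₁ < W₀ ∧ W₀ ≤ P') ∧
      ∀ X : Subgroup Γ, X.Normal ∧ W₁ < X ∧ X ≤ P' → X ≤ W₀ → W₀ ≤ X := by
    obtain ⟨W₀, hW₀⟩ := exists_minimal_of_wellFoundedLT
      (fun X : Subgroup Γ => X.Normal ∧ W₁ < X ∧ X ≤ P')
      ⟨P', inferInstance, lt_of_le_of_ne inf_le_left hne, le_rfl⟩
    exact ⟨W₀, hW₀.1, fun X hX hle => hW₀.2 hX hle⟩
  let f1 := QuotientGroup.mk' W₁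
  let f2 := QuotientGroup.mk' P'
  -- stabilisers in `W₀/W₁`
  have hBP : ∀ w ∈ W₀, P ≤ stab f1 (f1 w) := fun w hw x hx => by
    rw [mem_stab, ← map_mul, ← map_mul, QuotientGroup.mk'_eq_mk']
    refine ⟨(x * w)⁻¹ * (w * x), hUW ?_, by group⟩
    have := Subgroup.commutator_mem_commutator (inv_mem (hW₀P hw)) (inv_mem hx)
    convert this using 1
    simp [commutatorElement_def, mul_assoc]
  have hstab_le : ∀ w ∈ W₀, w ∉ W₁ → ∀ w' ∈ W₀, stab f1 (f1 w) ≤ stab f1 (f1 w') := by
    intro w hw hw1 w' hw'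
    have hBn : (stab f1 (f1 w)).Normal := normal_of_commutator_le (h.comm_le.trans (hBP w hw))
    have := hBn.map f1 (QuotientGroup.mk'_surjective W₁)
    let X := W₀ ⊓ (Subgroup.centralizer ((stab f1 (f1 w)).map f1 : Set (Γ ⧸ W₁))).comap f1
    have hXw : ∀ a : Γ, a ∈ X ↔ a ∈ W₀ ∧ ∀ b ∈ stab f1 (f1 w), f1 b * f1 a = f1 a * f1 b := by
      intro a
      simp [X, Subgroup.mem_centralizer_iff]
    have hle : W₀ ≤ X := hmin X ⟨inferInstance, lt_of_le_of_ne (fun a ha => ?_) fun e => hw1 ?_,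
      inf_le_left.trans hW₀P⟩ inf_le_left
    · intro b hb
      exact mem_stab.mpr (((hXw w').mp (hle hw')).2 b hb)
    · refine (hXw a).mpr ⟨hlt.le ha, fun b _ => ?_⟩
      rw [show f1 a = 1 from (QuotientGroup.eq_one_iff a).mpr ha, mul_one, one_mul]
    · rw [e]; exact (hXw w).mpr ⟨hw, fun b hb => mem_stab.mp hb⟩
  obtain ⟨w, hw, hw1⟩ := SetLike.exists_of_lt hlt
  set B := stab f1 (f1 w) with hB
  have hr : B.index ∣ Nat.card (W₀.map f1) - 1 := by
    rw [← Subgroup.relIndex_top_right, ← card_sdiff_one (W₀.map f1)]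
    refine relIndex_dvd_card f1 ⊤ B _ (fun a _ x hx => ?_) fun x hx a _ => ?_
    · refine ⟨(hW₀n.map f1 (QuotientGroup.mk'_surjective W₁)).conj_mem _ hx.1 _, fun e => hx.2 ?_⟩
      rw [Set.mem_singleton_iff, mul_inv_eq_one] at e
      exact mul_eq_left.mp e
    · obtain ⟨⟨v, hv, rfl⟩, hx1⟩ := hx
      have hv1 : v ∉ W₁ := fun hh => hx1 ((QuotientGroup.eq_one_iff v).mpr hh)
      rw [← mem_stab']
      exact ⟨fun ha => hstab_le w hw hw1 v hv ha, fun ha => hstab_le v hv hv1 w hw ha⟩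
  -- stabilisers in `P/P'`
  set A := stab f2 (f2 z) with hA
  have hAP : P ≤ A := fun x hx => by
    rw [hA, mem_stab, ← map_mul, ← map_mul, QuotientGroup.mk'_eq_mk']
    refine ⟨(x * z)⁻¹ * (z * x), ?_, by group⟩
    have := Subgroup.commutator_mem_commutator (inv_mem hz) (inv_mem hx)
    convert this using 1
    simp [commutatorElement_def, mul_assoc]
  have hAn : A.Normal := normal_of_commutator_le (h.comm_le.trans hAP)
  have hAfix : ∀ a ∈ A, ∀ x ∈ P, f2 a * f2 x = f2 x * f2 a := by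
    intro a ha x hx
    by_cases hx' : x ∈ P'
    · rw [show f2 x = 1 from (QuotientGroup.eq_one_iff x).mpr hx', mul_one, one_mul]
    obtain ⟨y, hy⟩ := h.trans z hz hz' x hx hx'
    have e : f2 x = f2 y * f2 z * (f2 y)⁻¹ := by
      rw [← map_inv, ← map_mul, ← map_mul, QuotientGroup.mk'_eq_mk']
      exact ⟨_, hy, by group⟩
    have h1 : f2 (y⁻¹ * a * y) * f2 z = f2 z * f2 (y⁻¹ * a * y) :=
      mem_stab.mp (by simpa using hAn.conj_mem a ha y⁻¹)
    rw [e]
    simp only [map_mul, map_inv] at h1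
    calc f2 a * (f2 y * f2 z * (f2 y)⁻¹)
        = f2 y * (((f2 y)⁻¹ * f2 a * f2 y) * f2 z) * (f2 y)⁻¹ := by group
      _ = f2 y * (f2 z * ((f2 y)⁻¹ * f2 a * f2 y)) * (f2 y)⁻¹ := by rw [h1]
      _ = _ := by group
  have hA' : ∀ a : Γ, ∀ x ∈ P, x ∉ P' → (a ∈ A ↔ f2 a * f2 x * (f2 a)⁻¹ = f2 x) := by
    intro a x hx hx'
    rw [mul_inv_eq_iff_eq_mul]
    refine ⟨fun ha => hAfix a ha x hx, fun ha => ?_⟩
    obtain ⟨y, hy⟩ := h.trans x hx hx' z hz hz'
    have e : f2 z = f2 y * f2 x * (f2 y)⁻¹ := by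
      rw [← map_inv, ← map_mul, ← map_mul, QuotientGroup.mk'_eq_mk']
      exact ⟨_, hy, by group⟩
    have hc : ⁅y⁻¹, a⁆ ∈ A :=
      hAP (h.comm_le (Subgroup.commutator_mem_commutator (Subgroup.mem_top _) (Subgroup.mem_top _)))
    have h2 := hAfix _ hc x hx
    simp only [commutatorElement_def, inv_inv, map_mul, map_inv] at h2
    rw [hA, mem_stab, e]
    calc f2 a * (f2 y * f2 x * (f2 y)⁻¹)
        = f2 y * ((f2 y)⁻¹ * f2 a * f2 y * (f2 a)⁻¹ * (f2 a * f2 x)) * (f2 y)⁻¹ := by group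
      _ = f2 y * (((f2 y)⁻¹ * f2 a * f2 y * (f2 a)⁻¹ * f2 x) * f2 a) * (f2 y)⁻¹ := by
          rw [ha]; group
      _ = _ := by rw [h2]; group
  have hm : A.index = Nat.card (P.map f2) - 1 := by
    have hc : Subgroup.centralizer ({f2 z} : Set (Γ ⧸ P')) = A.map f2 :=
      (Subgroup.map_comap_eq_self_of_surjective (QuotientGroup.mk'_surjective P') _).symm
    have h1 := BC87.card_isConj_mul_card_centralizer (f2 z)
    rw [hc, ← Subgroup.index_mul_card (A.map f2)] at h1
    have h2 : (A.map f2).index = A.index :=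
      A.index_map_eq (QuotientGroup.mk'_surjective P')
        (by rw [QuotientGroup.ker_mk']; exact hP'P.trans hAP)
    rw [← h2, ← Nat.eq_of_mul_eq_mul_right Nat.card_pos h1, ← card_sdiff_one (P.map f2)]
    refine Nat.card_congr (Equiv.subtypeEquivRight fun v => ⟨fun hv => ?_, fun hv => ?_⟩)
    · obtain ⟨g, hg⟩ := isConj_iff.mp hv
      refine ⟨hg ▸ (h.normal.map f2 (QuotientGroup.mk'_surjective P')).conj_mem _
        (Subgroup.mem_map_of_mem f2 hz) g, fun e => ?_⟩
      rw [Set.mem_singleton_iff] at e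
      rw [e, mul_inv_eq_one, mul_eq_left] at hg
      exact hz' ((QuotientGroup.eq_one_iff z).mp hg)
    · obtain ⟨⟨x, hx, rfl⟩, hx1⟩ := hv
      obtain ⟨y, hy⟩ := h.trans z hz hz' x hx fun hh => hx1 ((QuotientGroup.eq_one_iff x).mpr hh)
      refine isConj_iff.mpr ⟨f2 y, ?_⟩
      rw [← map_inv, ← map_mul, ← map_mul]
      exact (QuotientGroup.mk'_eq_mk' P').mpr ⟨_, hy, by group⟩ |>.symm
  -- `A ≤ B`
  have hAB : A ≤ B := by
    intro a ha
    let f := QuotientGroup.mk' U
    have hcomm : ∀ k ∈ P', ∀ x ∈ P, Commute (f k) (f x) := fun k hk x hx => by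
      refine commutatorElement_eq_one_iff_mul_comm.mp ?_
      rw [← map_commutatorElement]
      exact (QuotientGroup.eq_one_iff _).mpr (Subgroup.commutator_mem_commutator hk hx)
    have hshift : ∀ x ∈ P, ∃ k ∈ P', f a * f x * (f a)⁻¹ = f x * f k := by
      intro x hx
      have := hAfix a ha x hx
      rw [← map_mul, ← map_mul, QuotientGroup.mk'_eq_mk'] at this
      obtain ⟨k, hk, e⟩ := this
      refine ⟨a * k⁻¹ * a⁻¹, Subgroup.Normal.conj_mem inferInstance _ (inv_mem hk) a, ?_⟩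
      simp only [← map_mul, ← map_inv]
      congr 1
      rw [← mul_assoc, ← mul_assoc, ← e]
      group
    have hle : P' ≤ (Subgroup.centralizer ({f a} : Set (Γ ⧸ U))).comap f := by
      refine le_trans hP'.le (Subgroup.commutator_le.mpr ?_)
      intro x hx y hy
      rw [Subgroup.mem_comap, Subgroup.mem_centralizer_singleton_iff, map_commutatorElement]
      obtain ⟨k, hk, ek⟩ := hshift x hx
      obtain ⟨l, hl, el⟩ := hshift y hy
      have : f a * ⁅f x, f y⁆ * (f a)⁻¹ = ⁅f x, f y⁆ := by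
        rw [show f a * ⁅f x, f y⁆ * (f a)⁻¹ = MulAut.conj (f a) ⁅f x, f y⁆ from rfl,
          map_commutatorElement]
        show ⁅f a * f x * (f a)⁻¹, f a * f y * (f a)⁻¹⁆ = _
        rw [ek, el, commutatorElement_mul_central (hcomm k hk y hy) (hcomm k hk l (hP'P hl))
          (hcomm l hl x hx) (hcomm k hk x hx) (hcomm l hl y hy)]
      exact (mul_inv_eq_iff_eq_mul.mp this).symm
    have h1 := hle (hW₀P hw)
    rw [Subgroup.mem_comap, Subgroup.mem_centralizer_singleton_iff, ← map_mul, ← map_mul,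
      QuotientGroup.mk'_eq_mk'] at h1
    obtain ⟨u, hu, e⟩ := h1
    rw [hB, mem_stab, ← map_mul, ← map_mul, eq_comm, QuotientGroup.mk'_eq_mk']
    exact ⟨u, hUW hu, e⟩
  -- the kernel of `x ↦ ⁅w, x⁆`
  set S := P ⊓ Subgroup.centralizer ({w} : Set Γ) with hS
  have hP'S : P' ≤ S := le_inf hP'P fun k hk =>
    Subgroup.mem_centralizer_singleton_iff.mpr (hab k hk w (hW₀P hw))
  have hSne : ¬ P ≤ S := fun hle => hw1 ⟨hW₀P hw, Subgroup.mem_centralizer_iff.mpr fun x hx =>
    Subgroup.mem_centralizer_singleton_iff.mp (hle hx).2⟩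
  have hSgt : P' < S := by
    refine lt_of_le_of_ne hP'S fun e => ?_
    have hwP : w ∈ P := hP'P (hW₀P hw)
    have h1 := BC87.card_isConj_mul_card_centralizer (⟨w, hwP⟩ : P)
    have h2 : Nat.card {x : P // IsConj (⟨w, hwP⟩ : P) x} ≤ Nat.card U := by
      refine Nat.card_le_card_of_injective (fun x => ⟨w⁻¹ * (x.1 : Γ), ?_⟩) fun x y hxy => ?_
      · obtain ⟨y, hy⟩ := isConj_iff.mp x.2
        rw [← hy]
        have := Subgroup.commutator_mem_commutator (inv_mem (hW₀P hw)) y.2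
        convert this using 1
        simp [commutatorElement_def, mul_assoc]
      · exact Subtype.ext (Subtype.ext (mul_left_cancel (congrArg Subtype.val hxy)))
    have h3 : Nat.card (Subgroup.centralizer ({(⟨w, hwP⟩ : P)} : Set P)) ≤ Nat.card P' := by
      refine Nat.card_le_card_of_injective (fun x => ⟨(x.1 : Γ), ?_⟩) fun x y hxy =>
        Subtype.ext (Subtype.ext (congrArg Subtype.val hxy :))
      rw [e]
      exact ⟨x.1.2, Subgroup.mem_centralizer_singleton_iff.mpr
        (congrArg Subtype.val (Subgroup.mem_centralizer_singleton_iff.mp x.2))⟩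
    have := Nat.mul_le_mul h2 h3
    rw [h1] at this
    linarith
  have hsS : A.relIndex B ∣ Nat.card (S.map f2) - 1 := by
    rw [← card_sdiff_one (S.map f2)]
    refine relIndex_dvd_card f2 B A _ (fun a ha x hx => ?_) fun x hx a _ => ?_
    · obtain ⟨⟨v, hv, rfl⟩, hx1⟩ := hx
      have e : f2 a * f2 v * (f2 a)⁻¹ = f2 (a * v * a⁻¹) := by simp
      refine ⟨e ▸ Subgroup.mem_map_of_mem f2 ⟨h.normal.conj_mem v hv.1 a, ?_⟩, fun e' => hx1 ?_⟩
      · rw [hB, mem_stab, ← map_mul, ← map_mul, eq_comm, QuotientGroup.mk'_eq_mk'] at ha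
        obtain ⟨w₁, hw₁, ea⟩ := ha
        have hcv : v * w = w * v := Subgroup.mem_centralizer_singleton_iff.mp hv.2
        have hw₁v : v * w₁ = w₁ * v := Subgroup.mem_centralizer_iff.mp hw₁.2 v hv.1
        show a * v * a⁻¹ ∈ Subgroup.centralizer _
        rw [Subgroup.mem_centralizer_singleton_iff]
        have hav : a * v * a⁻¹ * w₁ = w₁ * (a * v * a⁻¹) :=
          Subgroup.mem_centralizer_iff.mp hw₁.2 _ (h.normal.conj_mem v hv.1 a)
        have ew : w * a = a * w * w₁⁻¹ := by rw [← ea]; group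
        have hwa : a⁻¹ * w * a = w * w₁⁻¹ := by rw [mul_assoc, ew]; group
        have h5 : v * (w * w₁⁻¹) = w * w₁⁻¹ * v := by
          rw [← mul_assoc, hcv, mul_assoc, (Commute.inv_right hw₁v : Commute v w₁⁻¹).eq, mul_assoc]
        rw [← hwa] at h5
        calc a * v * a⁻¹ * w = a * (v * (a⁻¹ * w * a)) * a⁻¹ := by group
          _ = a * ((a⁻¹ * w * a) * v) * a⁻¹ := by rw [h5]
          _ = w * (a * v * a⁻¹) := by group
      · rw [Set.mem_singleton_iff, mul_inv_eq_one] at e'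
        exact mul_eq_left.mp e'
    · obtain ⟨⟨v, hv, rfl⟩, hx1⟩ := hx
      exact hA' a v hv.1 fun hh => hx1 ((QuotientGroup.eq_one_iff v).mpr hh)
  -- arithmetic
  obtain ⟨n, hn⟩ := (h.isPGroup.map f2).exists_card_eq
  obtain ⟨d, hd⟩ := ((h.isPGroup.to_le (hW₀P.trans hP'P)).map f1).exists_card_eq
  obtain ⟨e, he⟩ := ((h.isPGroup.to_le (inf_le_left : S ≤ P)).map f2).exists_card_eq
  have cP : Nat.card (P.map f2) * Nat.card P' = Nat.card P := card_map_mk' P' hP'P
  have cS : Nat.card (S.map f2) * Nat.card P' = Nat.card S := card_map_mk' P' hP'S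
  have cW : Nat.card (W₀.map f1) * Nat.card W₁ = Nat.card W₀ := card_map_mk' W₁ hlt.le
  have hpos : 0 < Nat.card P' := Nat.card_pos
  have hdn : d < n := by
    refine (Nat.pow_lt_pow_iff_right hp.one_lt).mp ?_
    rw [← hd, ← hn]
    have h1 : Nat.card W₀ ≤ Nat.card P' := Subgroup.card_le_of_le hW₀P
    have h2 : Nat.card U ≤ Nat.card W₁ := Subgroup.card_le_of_le hUW
    have h3 : Nat.card (W₀.map f1) * Nat.card U ≤ Nat.card P' :=
      le_trans (Nat.mul_le_mul_left _ h2) (cW ▸ h1)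
    by_contra hcon
    push Not at hcon
    have : Nat.card P * Nat.card U ≤ Nat.card P' * Nat.card P' := by
      calc Nat.card P * Nat.card U = Nat.card (P.map f2) * Nat.card P' * Nat.card U := by rw [cP]
        _ ≤ Nat.card (W₀.map f1) * Nat.card P' * Nat.card U :=
            Nat.mul_le_mul_right _ (Nat.mul_le_mul_right _ hcon)
        _ = (Nat.card (W₀.map f1) * Nat.card U) * Nat.card P' := by ring
        _ ≤ _ := Nat.mul_le_mul_right _ h3
    omega
  have hd0 : 0 < d := Nat.pos_of_ne_zero fun hd0 => hw1 <| by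
    rw [hd0, pow_zero, Subgroup.card_eq_one] at hd
    exact (QuotientGroup.eq_one_iff w).mp
      (Subgroup.mem_bot.mp (hd ▸ Subgroup.mem_map_of_mem f1 hw))
  have he0 : 0 < e := Nat.pos_of_ne_zero fun he0 => by
    rw [he0, pow_zero] at he
    rw [he, one_mul] at cS
    exact hSgt.ne (Subgroup.eq_of_le_of_card_ge hP'S cS.ge)
  have hen : e < n := by
    refine (Nat.pow_lt_pow_iff_right hp.one_lt).mp ?_
    rw [← he, ← hn]
    by_contra hcon
    push Not at hcon
    have : Nat.card P ≤ Nat.card S := cP ▸ cS ▸ Nat.mul_le_mul_right _ hcon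
    exact hSne (Subgroup.eq_of_le_of_card_ge inf_le_left this).ge
  refine mul_ne_pow_sub_one hp.one_lt hdn hen hd0 he0 (hd ▸ hr) (he ▸ hsS) ?_
  rw [mul_comm, Subgroup.relIndex_mul_index hAB, hm, hn]

omit [Finite Γ] in
/-- In class two the powers are multiplicative up to a commutator. -/
theorem mul_pow_of_commute {x y c : Γ} (hc : y * x = c * x * y) (hcx : Commute c x)
    (hcy : Commute c y) (n : ℕ) : (x * y) ^ n = c ^ (n.choose 2) * x ^ n * y ^ n := by
  have hyn : ∀ k : ℕ, y ^ k * x = c ^ k * x * y ^ k := fun k => by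
    induction k with
    | zero => simp
    | succ k ih =>
      calc y ^ (k + 1) * x = y ^ k * (y * x) := by rw [pow_succ, mul_assoc]
        _ = y ^ k * c * x * y := by rw [hc]; simp only [mul_assoc]
        _ = c * (y ^ k * x) * y := by rw [((hcy.symm).pow_left k).eq]; simp only [mul_assoc]
        _ = c ^ (k + 1) * x * y ^ (k + 1) := by
          rw [ih, pow_succ' c, pow_succ y]; simp only [mul_assoc]
  induction n with
  | zero => simp
  | succ n ih =>
    calc (x * y) ^ (n + 1) = c ^ (n.choose 2) * x ^ n * (y ^ n * x) * y := by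
          rw [pow_succ, ih]; simp only [mul_assoc]
      _ = c ^ (n.choose 2) * (x ^ n * c ^ n) * x * y ^ n * y := by
          rw [hyn n]; simp only [mul_assoc]
      _ = c ^ ((n + 1).choose 2) * x ^ (n + 1) * y ^ (n + 1) := by
          rw [((hcx.symm).pow_pow n n).eq, Nat.choose_succ_succ', Nat.choose_one_right,
            add_comm n, pow_add, pow_succ x, pow_succ y]
          simp only [mul_assoc]

/-- Every element outside `P'` has order `p`. -/
theorem Camina.pow_eq_one {p : ℕ} (hp : p.Prime) (hp2 : p ≠ 2) {P : Subgroup Γ} (h : Camina p P)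
    {z : Γ} (hz : z ∈ P) (hz' : z ∉ ⁅P, P⁆) : z ^ p = 1 := by
  have hfact := Fact.mk hp
  have := h.normal
  set P' := ⁅P, P⁆ with hP'
  have hP'P : P' ≤ P := Subgroup.commutator_le_left P P
  -- class two
  have h3 : ⁅P', P⁆ = ⊥ := by
    set U := ⁅P', P⁆ with hU
    set U4 := ⁅U, P⁆ with hU4
    have hU4U : U4 ≤ U := Subgroup.commutator_le_left U P
    have hUP' : U ≤ P' := Subgroup.commutator_le_left P' P
    let f := QuotientGroup.mk' U4
    have hs : Function.Surjective f := QuotientGroup.mk'_surjective U4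
    have hker : U4.map f = ⊥ := QuotientGroup.map_mk'_self U4
    have hq : ⁅⁅P.map f, P.map f⁆, P.map f⁆ = ⊥ := by
      refine (h.map f hs).class_le_two_of_class_le_three hp (z := f z)
        (Subgroup.mem_map_of_mem f hz) ?_ ?_
      · rw [← Subgroup.map_commutator]
        rintro ⟨k, hk, he⟩
        rw [QuotientGroup.mk'_eq_mk'] at he
        obtain ⟨u, hu, rfl⟩ := he
        exact hz' (mul_mem hk (hUP' (hU4U hu)))
      · rw [← Subgroup.map_commutator, ← Subgroup.map_commutator, ← Subgroup.map_commutator]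
        exact hker
    rw [← Subgroup.map_commutator, ← Subgroup.map_commutator, Subgroup.map_eq_bot_iff,
      QuotientGroup.ker_mk'] at hq
    have hle : U ≤ U4 := hq
    obtain ⟨n, hn⟩ := (Subgroup.isNilpotent_iff_lowerCentralSeries P).mp h.isPGroup.isNilpotent
    refine le_bot_iff.mp (le_trans ?_ (le_of_eq hn))
    clear hn
    induction n with
    | zero => exact hUP'.trans hP'P
    | succ n ih =>
      rw [Subgroup.lowerCentralSeries_succ]
      exact hle.trans (Subgroup.commutator_mono ih le_rfl)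
  have hcen : ∀ k ∈ P', ∀ x ∈ P, k * x = x * k := fun k hk x hx => by
    have := Subgroup.commutator_mem_commutator hk hx
    rw [h3, Subgroup.mem_bot] at this
    exact commutatorElement_eq_one_iff_mul_comm.mp this
  -- `P'` has exponent `p`
  have hexp : ∀ k ∈ P', k ^ p = 1 := by
    intro k hk
    suffices hle : P' ≤ { carrier := {k | k ∈ P' ∧ k ^ p = 1}
                          one_mem' := ⟨one_mem _, one_pow p⟩
                          mul_mem' := fun {a b} ha hb => ⟨mul_mem ha.1 hb.1, by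
                            rw [(show Commute a b from hcen a ha.1 b (hP'P hb.1)).mul_pow, ha.2,
                              hb.2, one_mul]⟩
                          inv_mem' := fun {a} ha => ⟨inv_mem ha.1, by rw [inv_pow, ha.2, inv_one]⟩ } by
      exact (hle hk).2
    conv_lhs => rw [hP']
    rw [Subgroup.commutator_le]
    intro x hx y hy
    have hc : ⁅x, y⁆ ∈ P' := Subgroup.commutator_mem_commutator hx hy
    refine ⟨hc, ?_⟩
    have key : ∀ n : ℕ, x ^ n * y = ⁅x, y⁆ ^ n * y * x ^ n := fun n => by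
      induction n with
      | zero => simp
      | succ n ih =>
        have hcx : Commute (⁅x, y⁆ ^ n) x := (show Commute ⁅x, y⁆ x from hcen _ hc x hx).pow_left n
        calc x ^ (n + 1) * y = x * (⁅x, y⁆ ^ n * y * x ^ n) := by
              rw [← ih, pow_succ', mul_assoc]
          _ = ⁅x, y⁆ ^ n * (x * y) * x ^ n := by
              rw [← mul_assoc, ← mul_assoc, hcx.symm.eq]; simp only [mul_assoc]
          _ = ⁅x, y⁆ ^ n * (⁅x, y⁆ * y * x) * x ^ n := by
              rw [show x * y = ⁅x, y⁆ * y * x by simp [commutatorElement_def]]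
          _ = ⁅x, y⁆ ^ (n + 1) * y * x ^ (n + 1) := by
              rw [pow_succ, pow_succ' x]; simp only [mul_assoc]
    have := key p
    rw [hcen _ (h.pow_mem x hx) y hy, mul_assoc] at this
    exact mul_eq_right.mp this.symm
  by_contra hz1
  have hb : Nat.card P' * Nat.card P' < Nat.card P :=
    card_mul_lt P P' P' hP'P hP'P hz hz' (fun n hn => h.cls z hz hz' n hn)
      fun k hk => hcen k hk z hz
  -- the power map
  have hmul : ∀ x ∈ P, ∀ y ∈ P, (x * y) ^ p = x ^ p * y ^ p := by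
    intro x hx y hy
    have hc : ⁅y, x⁆ ∈ P' := Subgroup.commutator_mem_commutator hy hx
    rw [mul_pow_of_commute (c := ⁅y, x⁆) (by simp [commutatorElement_def]) (hcen _ hc x hx)
      (hcen _ hc y hy) p]
    obtain ⟨k, hk⟩ : p ∣ p.choose 2 :=
      hp.dvd_choose_self two_ne_zero (lt_of_le_of_ne hp.two_le (Ne.symm hp2))
    rw [hk, pow_mul, hexp _ hc, one_pow, one_mul]
  let pw : P →* P' :=
    { toFun := fun x => ⟨(x : Γ) ^ p, h.pow_mem x x.2⟩
      map_one' := Subtype.ext (one_pow p)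
      map_mul' := fun x y => Subtype.ext (hmul x x.2 y y.2) }
  have hker : ∀ x ∈ P, x ^ p = 1 → x ∈ P' := by
    intro x hx hx1
    by_contra hx'
    obtain ⟨y, hy⟩ := h.trans z hz hz' x hx hx'
    apply hz1
    have e : (y * z * y⁻¹) ^ p = 1 := by
      rw [show y * z * y⁻¹ = x * (x⁻¹ * (y * z * y⁻¹)) by group, hmul x hx _ (hP'P hy), hx1,
        hexp _ hy, one_mul]
    rw [conj_pow, conj_eq_one_iff] at e
    exact e
  have h1 : Nat.card pw.ker * pw.ker.index = Nat.card P := Subgroup.card_mul_index _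
  have h2 : pw.ker.index ≤ Nat.card P' := by
    rw [Subgroup.index_ker]; exact Subgroup.card_le_card_group _
  have h4 : Nat.card pw.ker ≤ Nat.card P' :=
    Nat.card_le_card_of_injective
      (fun x => ⟨(x.1 : Γ), hker _ x.1.2 (congrArg Subtype.val x.2 :)⟩)
      fun a b hab => Subtype.ext (Subtype.ext (congrArg Subtype.val hab :))
  have := Nat.mul_le_mul h4 h2
  omega

end Cfsg.Agent.BC86.OneNonlin
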