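import Cfsg.Agent.BC87.Basic
import Cfsg.Agent.Lib.CharCore.Linear

/-!
# An element seen by a single nonlinear character
-/

set_option autoImplicit false

open scoped ComplexConjugate commutatorElement Classical

namespace Cfsg.Agent.BC86.OneNonlin

universe u

variable {G : Type u} [Group G]

/-- The value at `g` of exactly one nonlinear irreducible character, `χ`, is nonzero. -/
structure Seen (g : G) (χ : Cfsg.IrrCharacter G) : Prop where
  noncentral : g ∉ Subgroup.center G
  deg : (χ : G → ℂ) 1 ≠ 1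
  ne : (χ : G → ℂ) g ≠ 0
  other : ∀ ψ : Cfsg.IrrCharacter G, (ψ : G → ℂ) 1 ≠ 1 → ψ ≠ χ → (ψ : G → ℂ) g = 0

variable [Finite G]

theorem sum_lin (y : G) :
    ∑ ψ ∈ Finset.univ.filter (fun ψ : Cfsg.IrrCharacter G => (ψ : G → ℂ) 1 = 1), (ψ : G → ℂ) y =
      if y ∈ commutator G then ((commutator G).index : ℂ) else 0 := by
  classical
  have hfin : Fintype (G →* ℂˣ) := Fintype.ofEquiv _ (CharCore.linearEquivHom (G := G)).symm
  rw [Finset.sum_subtype (p := fun ψ : Cfsg.IrrCharacter G => (ψ : G → ℂ) 1 = 1) _ (fun x => by simp)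
      (fun ψ => (ψ : G → ℂ) y),
    ← (CharCore.linearEquivHom (G := G)).sum_comp]
  show ∑ f : G →* ℂˣ, (f y : ℂ) = _
  split_ifs with hy
  · rw [Finset.sum_eq_card_nsmul (b := (1 : ℂ)) fun f _ => by
      rw [MonoidHom.mem_ker.mp (Abelianization.commutator_subset_ker f hy), Units.val_one],
      Finset.card_univ, ← Nat.card_eq_fintype_card, Nat.card_congr CharCore.linearEquivHom,
      CharCore.card_linearCharacters, nsmul_one]
  · have : Finite (Abelianization G) := Finite.of_surjective _ (QuotientGroup.mk_surjective (s := commutator G))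
    have : NeZero ((Monoid.exponent (Abelianization G) : ℕ) : ℂ) :=
      ⟨by exact_mod_cast Monoid.exponent_ne_zero_of_finite⟩
    obtain ⟨φ, hφ⟩ := CommGroup.exists_apply_ne_one_of_hasEnoughRootsOfUnity (Abelianization G) ℂ
      (a := Abelianization.of y) fun h => hy ((QuotientGroup.eq_one_iff y).mp h)
    let f₀ : G →* ℂˣ := φ.comp Abelianization.of
    have h1 : (f₀ y : ℂ) ≠ 1 := fun h => hφ (Units.ext h)
    refine eq_zero_of_mul_eq_self_left h1 ?_
    rw [Finset.mul_sum]
    exact Fintype.sum_equiv (Equiv.mulLeft f₀) _ _ fun f => by simp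

theorem lin_mul_conj {ψ : Cfsg.IrrCharacter G} (h1 : (ψ : G → ℂ) 1 = 1) (x y : G) :
    (ψ : G → ℂ) x * conj ((ψ : G → ℂ) y) = (ψ : G → ℂ) (x * y⁻¹) := by
  rw [BC87.apply_mul_of_degree_one h1, ← CharCore.irr_apply_inv]

/-- A normal subgroup's elements are sent to `1` by linear characters. -/
theorem lin_apply {ψ : Cfsg.IrrCharacter G} (h1 : (ψ : G → ℂ) 1 = 1) {x : G}
    (hx : x ∈ commutator G) : (ψ : G → ℂ) x = 1 := by
  obtain ⟨f, hf⟩ := CharCore.IsCharacter.exists_hom_of_degree_one (CharCore.irr_isCharacter ψ) h1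
  rw [hf]
  simp [MonoidHom.mem_ker.mp (Abelianization.commutator_subset_ker f hx)]

namespace Seen

variable {g : G} {χ : Cfsg.IrrCharacter G}

theorem sum_split (F : Cfsg.IrrCharacter G → ℂ) (χ : Cfsg.IrrCharacter G) (hd : (χ : G → ℂ) 1 ≠ 1)
    (h : ∀ ψ : Cfsg.IrrCharacter G, (ψ : G → ℂ) 1 ≠ 1 → ψ ≠ χ → F ψ = 0) :
    ∑ ψ, F ψ = (∑ ψ ∈ Finset.univ.filter (fun ψ : Cfsg.IrrCharacter G => (ψ : G → ℂ) 1 = 1), F ψ) + F χ := by
  classical
  rw [← Finset.sum_filter_add_sum_filter_not Finset.univ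
    (fun ψ : Cfsg.IrrCharacter G => (ψ : G → ℂ) 1 = 1) F]
  congr 1
  refine Finset.sum_eq_single χ (fun ψ hψ hne => h ψ (Finset.mem_filter.mp hψ).2 hne)
    fun hn => absurd (by simp [hd]) hn

theorem column (h : Seen g χ) (x : G) :
    ∑ ψ : Cfsg.IrrCharacter G, (ψ : G → ℂ) x * conj ((ψ : G → ℂ) g) =
      (if x * g⁻¹ ∈ commutator G then ((commutator G).index : ℂ) else 0) +
        (χ : G → ℂ) x * conj ((χ : G → ℂ) g) := by
  rw [sum_split _ χ h.deg fun ψ h1 hne => by rw [h.other ψ h1 hne, map_zero, mul_zero],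
    Finset.sum_congr rfl fun ψ hψ => lin_mul_conj (Finset.mem_filter.mp hψ).2 x g, sum_lin]

theorem ne_one (h : Seen g χ) : g ≠ 1 := fun e => h.noncentral (e ▸ one_mem _)

theorem column_of_not_isConj (h : Seen g χ) {x : G} (hx : ¬ IsConj x g) :
    (if x * g⁻¹ ∈ commutator G then ((commutator G).index : ℂ) else 0) +
      (χ : G → ℂ) x * conj ((χ : G → ℂ) g) = 0 := by
  have := Fintype.ofFinite G
  rw [← h.column x, CharCore.sum_apply_mul_conj x g, if_neg hx]

theorem deg_ne_zero (_h : Seen g χ) : (χ : G → ℂ) 1 ≠ 0 := by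
  rw [BC87.apply_one_eq]; exact_mod_cast (BC87.charDegree_pos χ).ne'

theorem mem_commutator (h : Seen g χ) : g ∈ commutator G := by
  by_contra hg
  have := h.column_of_not_isConj (x := 1) fun e => h.ne_one (isConj_one_left.mp e.symm)
  rw [one_mul, if_neg (fun hh => hg ((Subgroup.inv_mem_iff _).mp hh)), zero_add, mul_eq_zero] at this
  exact this.elim h.deg_ne_zero fun e => h.ne ((map_eq_zero _).mp e)

theorem conj_value (h : Seen g χ) :
    conj ((χ : G → ℂ) g) = -(((commutator G).index : ℂ) / (χ : G → ℂ) 1) := by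
  have := h.column_of_not_isConj (x := 1) fun e => h.ne_one (isConj_one_left.mp e.symm)
  rw [one_mul, if_pos (inv_mem h.mem_commutator)] at this
  have := h.deg_ne_zero
  field_simp
  linear_combination ‹(((commutator G).index : ℂ)) + _ = 0›

theorem value (h : Seen g χ) :
    (χ : G → ℂ) g = -(((commutator G).index : ℂ) / (χ : G → ℂ) 1) := by
  have := congrArg conj h.conj_value
  rw [Complex.conj_conj] at this
  rw [this, map_neg, map_div₀, BC87.apply_one_eq, Complex.conj_natCast, Complex.conj_natCast]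

theorem eq_zero_of_not_mem (h : Seen g χ) {x : G} (hx : x ∉ commutator G) : (χ : G → ℂ) x = 0 := by
  have := h.column_of_not_isConj (x := x) fun e => hx (by
    obtain ⟨c, hc⟩ := isConj_iff.mp e.symm
    exact hc ▸ (inferInstance : (commutator G).Normal).conj_mem g h.mem_commutator c)
  rw [if_neg (fun hh => hx (by simpa using mul_mem hh h.mem_commutator)), zero_add, mul_eq_zero] at this
  exact this.resolve_right fun e => h.ne ((map_eq_zero _).mp e)

theorem mem_ker_of_not_isConj (h : Seen g χ) {x : G} (hx : x ∈ commutator G) (hc : ¬ IsConj g x) :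
    x ∈ BC87.kerChar χ := by
  have := h.column_of_not_isConj (x := x) fun e => hc e.symm
  rw [if_pos (mul_mem hx (inv_mem h.mem_commutator)), h.conj_value] at this
  rw [BC87.mem_kerChar]
  have hd := h.deg_ne_zero
  have ha : ((commutator G).index : ℂ) ≠ 0 := Nat.cast_ne_zero.mpr Subgroup.index_ne_zero_of_finite
  field_simp at this
  refine mul_left_cancel₀ ha ?_
  linear_combination -this

theorem ker_le (h : Seen g χ) : BC87.kerChar χ ≤ commutator G := fun x hx => by
  by_contra hn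
  exact h.deg_ne_zero ((BC87.mem_kerChar.mp hx).symm.trans (h.eq_zero_of_not_mem hn))

theorem not_mem_ker (h : Seen g χ) : g ∉ BC87.kerChar χ := fun hg => by
  have h1 := h.value
  rw [BC87.mem_kerChar.mp hg, BC87.apply_one_eq] at h1
  have := congrArg Complex.re h1
  simp only [Complex.neg_re, Complex.div_natCast_re, Complex.natCast_re] at this
  have h2 : (0 : ℝ) < (Cfsg.charDegree (χ : G → ℂ) : ℝ) := Nat.cast_pos.mpr (BC87.charDegree_pos χ)
  have h3 : (0 : ℝ) ≤ ((commutator G).index : ℝ) / (Cfsg.charDegree (χ : G → ℂ) : ℝ) := by positivity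
  linarith

theorem isConj_iff_mem (h : Seen g χ) {x : G} :
    IsConj g x ↔ x ∈ commutator G ∧ x ∉ BC87.kerChar χ := by
  refine ⟨fun hx => ?_, fun hx => by_contra fun hc => hx.2 (h.mem_ker_of_not_isConj hx.1 hc)⟩
  obtain ⟨c, rfl⟩ := isConj_iff.mp hx
  exact ⟨(inferInstance : (commutator G).Normal).conj_mem g h.mem_commutator c, fun hh =>
    h.not_mem_ker (by simpa [mul_assoc] using (BC87.kerChar_normal χ).conj_mem _ hh c⁻¹)⟩

theorem set_eq (h : Seen g χ) : (commutator G : Set G) =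
    {x : G | (χ : G → ℂ) x = (χ : G → ℂ) 1} ∪ {x : G | IsConj g x} := by
  ext x
  refine ⟨fun hx => ?_, ?_⟩
  · by_cases hk : x ∈ BC87.kerChar χ
    · exact Or.inl hk
    · exact Or.inr (h.isConj_iff_mem.mpr ⟨hx, hk⟩)
  · rintro (hx | hx)
    · exact h.ker_le hx
    · exact (h.isConj_iff_mem.mp hx).1

theorem unique (h : Seen g χ) (ψ : Cfsg.IrrCharacter G) (h1 : (ψ : G → ℂ) 1 ≠ 1)
    (hK : BC87.kerChar χ ≤ BC87.kerChar ψ) : ψ = χ := by
  classical
  by_contra hne
  have := Fintype.ofFinite G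
  have h0 := CharCore.classInner_irr_of_ne (χ := ψ) (ψ := χ) hne
  rw [CharCore.classInner_def, mul_eq_zero,
    or_iff_right (inv_ne_zero (Nat.cast_ne_zero.mpr Nat.card_pos.ne'))] at h0
  have hterm : ∀ x : G, (ψ : G → ℂ) x * conj ((χ : G → ℂ) x) =
      if x ∈ BC87.kerChar χ then (ψ : G → ℂ) 1 * conj ((χ : G → ℂ) 1) else 0 := fun x => by
    split_ifs with hx
    · rw [BC87.mem_kerChar.mp hx, BC87.mem_kerChar.mp (hK hx)]
    · by_cases hx' : x ∈ commutator G
      · obtain ⟨c, hc⟩ := isConj_iff.mp (h.isConj_iff_mem.mpr ⟨hx', hx⟩)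
        rw [← hc, CharCore.irr_isClassFunction ψ, h.other ψ h1 hne, zero_mul]
      · rw [h.eq_zero_of_not_mem hx', map_zero, mul_zero]
  rw [Finset.sum_congr rfl (fun x _ => hterm x), ← Finset.sum_filter, Finset.sum_const,
    nsmul_eq_mul, mul_eq_zero, mul_eq_zero, Nat.cast_eq_zero, Finset.card_eq_zero,
    Finset.filter_eq_empty_iff, map_eq_zero] at h0
  rcases h0 with h0 | h0 | h0
  · exact h0 (Finset.mem_univ (1 : G)) (one_mem _)
  · rw [BC87.apply_one_eq, Nat.cast_eq_zero] at h0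
    exact (BC87.charDegree_pos ψ).ne' h0
  · exact h.deg_ne_zero h0

/-- Elements outside `G'` have centralizer of order `[G : G']` modulo the kernel. -/
theorem card_centralizer_quotient (h : Seen g χ) {x : G} (hx : x ∉ commutator G) :
    Nat.card (Subgroup.centralizer ({(x : G ⧸ BC87.kerChar χ)} : Set (G ⧸ BC87.kerChar χ))) =
      (commutator G).index := by
  classical
  set K := BC87.kerChar χ
  have key := BC87.sum_norm_sq_eq_card_centralizer ((x : G ⧸ K))
  rw [← (BC87.inflEquiv K).symm.sum_comp] at key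
  have hval : ∀ ψ : {ψ : Cfsg.IrrCharacter G // K ≤ BC87.kerChar ψ},
      (((BC87.inflEquiv K).symm ψ : Cfsg.IrrCharacter (G ⧸ K)) : G ⧸ K → ℂ) (x : G ⧸ K) =
        (ψ.1 : G → ℂ) x := fun ψ => by
    rw [← BC87.inflEquiv_apply K ((BC87.inflEquiv K).symm ψ) x, Equiv.apply_symm_apply]
  simp only [hval] at key
  rw [← Finset.sum_subtype (Finset.univ.filter fun ψ : Cfsg.IrrCharacter G => K ≤ BC87.kerChar ψ)
      (fun ψ => by simp) (fun ψ => (ψ : G → ℂ) x * conj ((ψ : G → ℂ) x)),
    Finset.sum_filter, sum_split _ χ h.deg (fun ψ h1 hne => if_neg fun hle => hne (h.unique ψ h1 hle)),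
    if_pos (le_refl K), h.eq_zero_of_not_mem hx, zero_mul, add_zero,
    show (∑ ψ ∈ Finset.univ.filter (fun ψ : Cfsg.IrrCharacter G => (ψ : G → ℂ) 1 = 1),
        if K ≤ BC87.kerChar ψ then (ψ : G → ℂ) x * conj ((ψ : G → ℂ) x) else 0) =
      ∑ ψ ∈ Finset.univ.filter (fun ψ : Cfsg.IrrCharacter G => (ψ : G → ℂ) 1 = 1), (ψ : G → ℂ) (1 : G)
      from Finset.sum_congr rfl fun ψ hψ => by
      have h1 := (Finset.mem_filter.mp hψ).2
      rw [if_pos (show K ≤ BC87.kerChar ψ from fun k hk => BC87.mem_kerChar.mpr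
        (by rw [lin_apply h1 (h.ker_le hk), h1])), lin_mul_conj h1, mul_inv_cancel],
    sum_lin, if_pos (one_mem _)] at key
  exact_mod_cast key.symm

end Seen

end Cfsg.Agent.BC86.OneNonlin
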