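import Cfsg.Agent.BC87.Basic
import Mathlib.GroupTheory.GroupAction.Quotient
import Mathlib.GroupTheory.QuotientGroup.Basic
import Mathlib.Data.Nat.GCD.Basic
import Mathlib.GroupTheory.Commutator.Basic

/-!
# Counting lemmas for conjugation inside a normal section
-/

set_option autoImplicit false

open scoped commutatorElement

namespace Cfsg.Agent.BC86.OneNonlin

variable {Γ Q : Type*} [Group Γ] [Group Q]

/-- The preimage of the centralizer of `x`. -/
def stab (φ : Γ →* Q) (x : Q) : Subgroup Γ := (Subgroup.centralizer ({x} : Set Q)).comap φ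

theorem mem_stab {φ : Γ →* Q} {x : Q} {a : Γ} : a ∈ stab φ x ↔ φ a * x = x * φ a := by
  simp [stab, Subgroup.mem_centralizer_singleton_iff]

theorem mem_stab' {φ : Γ →* Q} {x : Q} {a : Γ} : a ∈ stab φ x ↔ φ a * x * (φ a)⁻¹ = x := by
  rw [mem_stab, mul_inv_eq_iff_eq_mul]

theorem normal_of_commutator_le {B : Subgroup Γ} (h : commutator Γ ≤ B) : B.Normal :=
  ⟨fun n hn g => by
    have h1 : ⁅g, n⁆ ∈ B := h (Subgroup.commutator_mem_commutator (Subgroup.mem_top g) (Subgroup.mem_top n))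
    have := B.mul_mem h1 hn
    simpa [commutatorElement_def] using this⟩

/-- A conjugation invariant set on which all point stabilisers agree. -/
theorem relIndex_dvd_card (φ : Γ →* Q) (A B : Subgroup Γ) (S : Set Q)
    (hS : ∀ a ∈ A, ∀ x ∈ S, φ a * x * (φ a)⁻¹ ∈ S)
    (hB : ∀ x ∈ S, ∀ a ∈ A, a ∈ B ↔ φ a * x * (φ a)⁻¹ = x) :
    B.relIndex A ∣ Nat.card S := by
  letI : MulAction A S :=
    { smul := fun a x => ⟨φ a * x * (φ a)⁻¹, hS a a.2 x x.2⟩
      one_smul := fun x => Subtype.ext (by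
        show φ ((1 : A) : Γ) * x * (φ ((1 : A) : Γ))⁻¹ = x
        simp)
      mul_smul := fun a b x => Subtype.ext (by
        show φ ((a * b : A) : Γ) * x * (φ ((a * b : A) : Γ))⁻¹ = φ a * (φ b * x * (φ b)⁻¹) * (φ a)⁻¹
        simp [mul_assoc]) }
  have hst : ∀ x : S, MulAction.stabilizer A x = B.subgroupOf A := fun x => by
    ext a
    rw [MulAction.mem_stabilizer_iff, Subgroup.mem_subgroupOf, Subtype.ext_iff]
    exact (hB x x.2 a a.2).symm
  rw [Nat.card_congr ((MulAction.selfEquivSigmaOrbitsQuotientStabilizer A S).trans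
    ((Equiv.sigmaCongrRight fun ω : Quotient (MulAction.orbitRel A S) =>
      Subgroup.quotientEquivOfEq (hst ω.out)).trans
      (Equiv.sigmaEquivProd _ _))), Nat.card_prod]
  exact dvd_mul_left _ _

/-- The nonidentity elements of a finite subgroup. -/
theorem card_sdiff_one [Finite Q] (H : Subgroup Q) :
    Nat.card ↥((H : Set Q) \ {1}) = Nat.card H - 1 := by
  rw [Nat.card_coe_set_eq, Set.ncard_diff_singleton_of_mem (one_mem H), ← Nat.card_coe_set_eq]
  rfl

theorem card_map_mk' [Finite Γ] (N : Subgroup Γ) [N.Normal] {H : Subgroup Γ} (h : N ≤ H) :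
    Nat.card (H.map (QuotientGroup.mk' N)) * Nat.card N = Nat.card H := by
  have h2 : (H.map (QuotientGroup.mk' N)).index = H.index := by
    rw [Subgroup.index_map, QuotientGroup.ker_mk', sup_eq_left.mpr h,
      MonoidHom.range_eq_top.mpr (QuotientGroup.mk'_surjective N), Subgroup.index_top, mul_one]
  have h3 := Subgroup.index_mul_card (H.map (QuotientGroup.mk' N))
  rw [h2, ← Subgroup.index_eq_card] at h3
  have h4 := Subgroup.index_mul_card H
  have h5 := Subgroup.index_mul_card N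
  have hi : H.index ≠ 0 := Subgroup.index_ne_zero_of_finite
  refine Nat.eq_of_mul_eq_mul_left (Nat.pos_of_ne_zero hi) ?_
  rw [← mul_assoc, h3, h5, h4]

/-- A full coset inside a class and a subgroup centralising its representative. -/
theorem card_mul_lt [Finite Γ] (P N M : Subgroup Γ) (hN : N ≤ P) (hM : M ≤ P) {z : Γ} (hz : z ∈ P)
    (hzM : z ∉ M) (hcls : ∀ n ∈ N, ∃ y ∈ P, y * z * y⁻¹ = z * n)
    (hc : ∀ k ∈ M, k * z = z * k) : Nat.card N * Nat.card M < Nat.card P := by
  have hinj : Function.Injective fun n : N => (⟨z * n, mul_mem hz (hN n.2)⟩ : P) := fun n m h =>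
    Subtype.ext (mul_left_cancel (congrArg Subtype.val h))
  have hconj : ∀ n : N, IsConj (⟨z, hz⟩ : P) ⟨z * n, mul_mem hz (hN n.2)⟩ := fun n => by
    obtain ⟨y, hy, he⟩ := hcls n n.2
    exact isConj_iff.mpr ⟨⟨y, hy⟩, Subtype.ext he⟩
  have h1 : Nat.card N ≤ Nat.card {x : P // IsConj (⟨z, hz⟩ : P) x} :=
    Nat.card_le_card_of_injective (fun n : N => ⟨_, hconj n⟩) fun n m h =>
      hinj (congrArg Subtype.val h)
  set C := Subgroup.centralizer ({(⟨z, hz⟩ : P)} : Set P)
  have h2 : Nat.card M < Nat.card C := by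
    rw [← Nat.card_congr (Subgroup.subgroupOfEquivOfLe hM).toEquiv]
    refine Set.ncard_lt_ncard (t := (C : Set P)) (s := (M.subgroupOf P : Set P)) ?_ (Set.toFinite _)
    refine ⟨fun k hk => ?_, fun h => hzM (h (Subgroup.mem_centralizer_singleton_iff.mpr rfl :
      (⟨z, hz⟩ : P) ∈ C))⟩
    exact Subgroup.mem_centralizer_singleton_iff.mpr (Subtype.ext (hc k hk))
  calc Nat.card N * Nat.card M < Nat.card {x : P // IsConj (⟨z, hz⟩ : P) x} * Nat.card C :=
        Nat.mul_lt_mul_of_le_of_lt h1 h2 (lt_of_lt_of_le Nat.card_pos h1)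
    _ = Nat.card P := BC87.card_isConj_mul_card_centralizer _

/-- Two divisors of `p ^ n - 1` of small field type do not multiply to `p ^ n - 1`. -/
theorem mul_ne_pow_sub_one {p n d e r s : ℕ} (hp : 1 < p) (hd : d < n) (he : e < n)
    (hd0 : 0 < d) (he0 : 0 < e) (hr : r ∣ p ^ d - 1) (hs : s ∣ p ^ e - 1)
    (hrs : r * s = p ^ n - 1) : False := by
  have key : ∀ {x i : ℕ}, 0 < i → i < n → x ∣ p ^ i - 1 → x ∣ p ^ n - 1 →
      x ≤ p ^ (n / 2) - 1 := by
    intro x i hi0 hi hxi hxn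
    have h1 : x ∣ p ^ Nat.gcd i n - 1 := by
      rw [← Nat.pow_sub_one_gcd_pow_sub_one]; exact Nat.dvd_gcd hxi hxn
    have hg : 0 < Nat.gcd i n := Nat.gcd_pos_of_pos_left _ hi0
    have h2 : Nat.gcd i n ≤ n / 2 := by
      obtain ⟨k, hk⟩ := Nat.gcd_dvd_right i n
      have hle : Nat.gcd i n ≤ i := Nat.gcd_le_left _ hi0
      rcases k with _ | _ | k
      · omega
      · omega
      · rw [Nat.le_div_iff_mul_le two_pos]
        calc Nat.gcd i n * 2 ≤ Nat.gcd i n * (k + 1 + 1) := Nat.mul_le_mul_left _ (by omega)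
          _ = n := hk.symm
    refine (Nat.le_of_dvd (Nat.sub_pos_of_lt (Nat.one_lt_pow hg.ne' hp)) h1).trans ?_
    exact Nat.sub_le_sub_right (Nat.pow_le_pow_right hp.le h2) 1
  have hr' := key hd0 hd hr (hrs ▸ dvd_mul_right r s)
  have hs' := key he0 he hs (hrs ▸ dvd_mul_left s r)
  have h1 : p ^ (n / 2) * p ^ (n / 2) ≤ p ^ n := by
    rw [← pow_add]; exact Nat.pow_le_pow_right hp.le (by omega)
  have h3 : r * s ≤ (p ^ (n / 2) - 1) * (p ^ (n / 2) - 1) := Nat.mul_le_mul hr' hs'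
  have hn : 1 < p ^ n := Nat.one_lt_pow (by omega) hp
  obtain ⟨q, hq⟩ : ∃ q, p ^ (n / 2) = q + 1 :=
    Nat.exists_eq_succ_of_ne_zero (pow_ne_zero _ (by omega))
  rw [hq] at h1 h3
  simp only [Nat.add_sub_cancel] at h3
  rcases Nat.eq_zero_or_pos q with rfl | hq0
  · omega
  · nlinarith [Nat.sub_add_cancel hn.le]

end Cfsg.Agent.BC86.OneNonlin
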