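import Cfsg.Agent.BC86.OneNonlin.Chars
import Cfsg.Agent.BC86.OneNonlin.Camina
import Cfsg.Agent.BC86.RelGraph.Degrees
import Cfsg.Agent.CharB.CliffordDegree
import Cfsg.Agent.Lib.CharCore.ModP
import Cfsg.Agent.Lib.CharCore.Eigen
import Cfsg.Agent.Lib.Frobenius.Nilpotent
import Cfsg.Agent.S4456
import Cfsg.Agent.PF14.Compose

/-!
# Solvability when one element is seen by a single nonlinear character
-/

set_option autoImplicit false

open scoped ComplexConjugate commutatorElement Classical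

namespace Cfsg.Agent.BC86.OneNonlin

universe u

variable {G : Type u} [Group G] [Finite G]

/-- `χ(g)^p ≡ χ(g^p)` modulo `p`. -/
theorem modP_pow_sub (p : ℕ) [hp : Fact p.Prime] (χ : Cfsg.IrrCharacter G) (g : G) :
    CharCore.ModP p (((χ : G → ℂ) g) ^ p - (χ : G → ℂ) (g ^ p)) := by
  have := Fintype.ofFinite G
  obtain ⟨m, ρ, hρ, hχρ⟩ := χ.2
  obtain ⟨b, ω, hω, -, -, hk⟩ := CharCore.exists_eigenvalues ρ g
  have key : ∀ S : Finset (Fin (Module.finrank ℂ (Fin m → ℂ))),
      CharCore.ModP p ((∑ i ∈ S, ω i) ^ p - ∑ i ∈ S, ω i ^ p) := by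
    have hint : ∀ i, IsIntegral ℤ (ω i) := fun i =>
      IsIntegral.of_pow (orderOf_pos g) (by rw [hω i]; exact isIntegral_one)
    intro S
    induction S using Finset.induction with
    | empty => simpa [hp.out.ne_zero] using CharCore.ModP.zero
    | @insert i S hi ih =>
      let a : Cfsg.AlgInt := ⟨ω i, hint i⟩
      let c : Cfsg.AlgInt := ⟨∑ j ∈ S, ω j, IsIntegral.sum _ fun j _ => hint j⟩
      obtain ⟨r, hr⟩ := exists_add_pow_prime_eq hp.out a c
      have h := congrArg (fun a : Cfsg.AlgInt => (a : ℂ)) hr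
      simp only [AddMemClass.coe_add, MulMemClass.coe_mul, SubmonoidClass.coe_pow,
        SubringClass.coe_natCast, a, c] at h
      rw [Finset.sum_insert hi, Finset.sum_insert hi]
      have h2 : CharCore.ModP p ((p : ℂ) * ω i * (∑ j ∈ S, ω j) * (r : ℂ)) :=
        (((CharCore.ModP.of_dvd dvd_rfl).mul_right (hint i)).mul_right
          (IsIntegral.sum _ fun j _ => hint j)).mul_right r.2
      convert ih.add h2 using 1
      rw [h]
      ring
  have h1 := hk 1
  simp only [pow_one] at h1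
  rw [← hχρ, h1, hk p]
  exact key Finset.univ

/-- A character vanishing at a `p`-element has degree divisible by `p`. -/
theorem dvd_degree_of_eq_zero {p : ℕ} [hp : Fact p.Prime] (χ : Cfsg.IrrCharacter G) {g : G} {k : ℕ}
    (hg : g ^ p ^ k = 1) (h0 : (χ : G → ℂ) g = 0) : p ∣ Cfsg.charDegree (χ : G → ℂ) := by
  have : ∀ i, CharCore.ModP p ((χ : G → ℂ) (g ^ p ^ i)) := by
    intro i
    induction i with
    | zero => rw [pow_zero, pow_one, h0]; exact CharCore.ModP.zero
    | succ i ih =>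
      have h := modP_pow_sub p χ (g ^ p ^ i)
      rw [← pow_mul, ← pow_succ] at h
      have hint := CharClifford.isIntegral_of_isIrrCharacter χ.2 (g ^ p ^ i)
      have h2 := CharCore.ModP.mul_left (hint.pow (p - 1)) ih
      rw [← pow_succ, Nat.sub_add_cancel hp.out.one_le] at h2
      have := h2.sub h
      rwa [sub_sub_cancel] at this
  have h := this k
  rw [hg, BC87.apply_one_eq] at h
  exact CharCore.modP_natCast_iff.mp h

/-- A normal `p`-complement of a normal subgroup, as a normal subgroup of the group. -/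
theorem exists_complement {p : ℕ} [hp : Fact p.Prime] (N : Subgroup G) [hN : N.Normal]
    (hM : ∃ M : Subgroup N, M.Normal ∧ (Nat.card M).Coprime p ∧ ∃ k : ℕ, M.index = p ^ k) :
    ∃ L : Subgroup G, L.Normal ∧ ¬ p ∣ Nat.card L ∧ L ≤ N ∧
      (∀ x, x ∈ L ↔ x ∈ N ∧ ¬ p ∣ orderOf x) ∧ ∃ k : ℕ, L.relIndex N = p ^ k := by
  obtain ⟨M, hMn, hMc, k, hk⟩ := hM
  have hmem : ∀ x, x ∈ M.map N.subtype ↔ x ∈ N ∧ ¬ p ∣ orderOf x := by
    intro x
    constructor
    · rintro ⟨m, hm, rfl⟩
      refine ⟨m.2, fun hd => ?_⟩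
      have h1 : p ∣ Nat.card M := hd.trans (by
        have h2 := orderOf_dvd_natCard (⟨m, hm⟩ : M)
        rwa [← Subgroup.orderOf_coe, ← Subgroup.orderOf_coe] at h2)
      exact hp.out.coprime_iff_not_dvd.mp hMc.symm h1
    · rintro ⟨hx, hd⟩
      refine ⟨⟨x, hx⟩, ?_, rfl⟩
      have h1 : (⟨x, hx⟩ : N) ^ p ^ k ∈ M := hk ▸ M.pow_index_mem _
      obtain ⟨m, hm⟩ := exists_pow_eq_self_of_coprime (x := (⟨x, hx⟩ : N)) (n := p ^ k)
        (Nat.Coprime.pow_left _ (hp.out.coprime_iff_not_dvd.mpr (by rwa [Subgroup.orderOf_mk])))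
      exact hm ▸ M.pow_mem h1 m
  refine ⟨M.map N.subtype, ⟨fun x hx c => ?_⟩, ?_, Subgroup.map_subtype_le M, hmem, k, ?_⟩
  · rw [hmem] at hx ⊢
    exact ⟨hN.conj_mem x hx.1 c, by
      rw [show orderOf (c * x * c⁻¹) = orderOf x from (MulAut.conj c).orderOf_eq x]
      exact hx.2⟩
  · rw [Subgroup.card_subtype]
    exact hp.out.coprime_iff_not_dvd.mp hMc.symm
  · rw [Subgroup.relIndex, Subgroup.subgroupOf,
      Subgroup.comap_map_eq_self_of_injective N.subtype_injective, hk]

/-- An odd order normal subgroup below a subgroup with `p`-group quotient, and abelian above. -/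
theorem isSolvable_of_series (L N : Subgroup G) [hL : L.Normal] [hN : N.Normal] (hLN : L ≤ N)
    {p k : ℕ} [Fact p.Prime] (hk : L.relIndex N = p ^ k) (hG : commutator G ≤ N)
    [Group.IsSolvable L] : Group.IsSolvable G := by
  have h1 : Group.IsSolvable N := by
    have hp : IsPGroup p (N ⧸ L.subgroupOf N) := IsPGroup.of_card (n := k) hk
    have : Group.IsNilpotent (N ⧸ L.subgroupOf N) := hp.isNilpotent
    refine Group.isSolvable_of_ker_le_range (Subgroup.inclusion hLN)
      (QuotientGroup.mk' (L.subgroupOf N)) ?_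
    rw [QuotientGroup.ker_mk']
    exact fun x hx => ⟨⟨x, hx⟩, rfl⟩
  have h2 : Group.IsSolvable (G ⧸ N) := by
    have hc : ∀ a b : G ⧸ N, a * b = b * a := by
      intro a b
      obtain ⟨a, rfl⟩ := QuotientGroup.mk'_surjective N a
      obtain ⟨b, rfl⟩ := QuotientGroup.mk'_surjective N b
      refine commutatorElement_eq_one_iff_mul_comm.mp ?_
      rw [← map_commutatorElement]
      exact (QuotientGroup.eq_one_iff _).mpr
        (hG (Subgroup.commutator_mem_commutator (Subgroup.mem_top a) (Subgroup.mem_top b)))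
    exact Group.isSolvable_of_comm hc
  refine Group.isSolvable_of_ker_le_range N.subtype (QuotientGroup.mk' N) ?_
  rw [QuotientGroup.ker_mk', Subgroup.range_subtype]

theorem isSolvable_of_odd (L : Subgroup G) (h : ¬ 2 ∣ Nat.card L) : Group.IsSolvable L :=
  PF14.feitThompson L (Nat.odd_iff.mpr (by omega))

theorem orderOf_conj (c x : G) : orderOf (c * x * c⁻¹) = orderOf x :=
  (MulAut.conj c).orderOf_eq x

theorem relIndex_mul_card_eq {H K : Subgroup G} (h : H ≤ K) :
    H.relIndex K * Nat.card H = Nat.card K := by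
  rw [← Nat.card_congr (Subgroup.subgroupOfEquivOfLe h).toEquiv]
  exact Subgroup.index_mul_card _

namespace Seen

variable {g : G} {χ : Cfsg.IrrCharacter G}

/-- The prime, and `G'/ker χ` is elementary abelian. -/
theorem exists_prime (h : Seen g χ) : ∃ p : ℕ, p.Prime ∧
    (∀ x ∈ commutator G, x ^ p ∈ BC87.kerChar χ) ∧
    ⁅commutator G, commutator G⁆ ≤ BC87.kerChar χ ∧
    (∃ k : ℕ, orderOf g = p ^ k) ∧ ∃ j : ℕ, (BC87.kerChar χ).relIndex (commutator G) = p ^ j := by
  set K := BC87.kerChar χ with hK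
  set N := commutator G with hN
  let π := QuotientGroup.mk' K
  have hV1 : 1 < Nat.card (N.map π) := by
    rw [Subgroup.one_lt_card_iff_ne_bot, ne_eq, Subgroup.map_eq_bot_iff, QuotientGroup.ker_mk']
    exact fun hle => h.not_mem_ker (hle h.mem_commutator)
  obtain ⟨p, hp, hpd⟩ := Nat.exists_prime_and_dvd hV1.ne'
  have := Fact.mk hp
  have hord : ∀ x ∈ N, x ∉ K → orderOf (π x) = orderOf (π g) := fun x hx hxK => by
    obtain ⟨c, rfl⟩ := isConj_iff.mp (h.isConj_iff_mem.mpr ⟨hx, hxK⟩)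
    rw [map_mul, map_mul, map_inv, orderOf_conj]
  obtain ⟨⟨v, hv⟩, hvp⟩ := exists_prime_orderOf_dvd_card' (G := N.map π) p hpd
  rw [Subgroup.orderOf_mk] at hvp
  have hgp : orderOf (π g) = p := by
    obtain ⟨x, hx, rfl⟩ := hv
    rw [← hord x hx fun hxK => ?_, hvp]
    rw [show π x = 1 from (QuotientGroup.eq_one_iff x).mpr hxK, orderOf_one] at hvp
    exact hp.one_lt.ne hvp
  have hpow : ∀ x ∈ N, x ^ p ∈ K := fun x hx => by
    by_cases hxK : x ∈ K
    · exact pow_mem hxK p
    · have := pow_orderOf_eq_one (π x)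
      rw [hord x hx hxK, hgp, ← map_pow] at this
      exact (QuotientGroup.eq_one_iff _).mp this
  have hV : IsPGroup p (N.map π) := by
    rintro ⟨_, x, hx, rfl⟩
    exact ⟨1, Subtype.ext (by
      rw [pow_one]
      show π x ^ p = 1
      rw [← map_pow]; exact (QuotientGroup.eq_one_iff _).mpr (hpow x hx))⟩
  have : Nontrivial (N.map π) := Finite.one_lt_card_iff_nontrivial.mp hV1
  have := hV.center_nontrivial
  obtain ⟨⟨v, hvc⟩, hv1⟩ := exists_ne (1 : Subgroup.center (N.map π))
  obtain ⟨x, hx, hxv⟩ := v.2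
  have hxK : x ∉ K := fun hxK => hv1 (Subtype.ext (Subtype.ext
    (hxv.symm.trans ((QuotientGroup.eq_one_iff x).mpr hxK))))
  have hab : ⁅N, N⁆ ≤ K := by
    rw [Subgroup.commutator_le]
    intro y hy n hn
    by_cases hyK : y ∈ K
    · have hn' := (BC87.kerChar_normal χ).conj_mem _ (inv_mem hyK) n
      have := mul_mem hyK hn'
      simpa [commutatorElement_def, mul_assoc] using this
    · obtain ⟨c, rfl⟩ := isConj_iff.mp ((h.isConj_iff_mem.mpr ⟨hx, hxK⟩).symm.trans
        (h.isConj_iff_mem.mpr ⟨hy, hyK⟩))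
      refine (QuotientGroup.eq_one_iff _).mp ?_
      show π ⁅c * x * c⁻¹, n⁆ = 1
      rw [map_commutatorElement, commutatorElement_eq_one_iff_mul_comm]
      have hm : c⁻¹ * n * c ∈ N := by
        simpa using (inferInstance : (commutator G).Normal).conj_mem n hn c⁻¹
      have hz := congrArg Subtype.val (Subgroup.mem_center_iff.mp hvc ⟨π (c⁻¹ * n * c),
        Subgroup.mem_map_of_mem π hm⟩)
      simp only [Subgroup.coe_mul, ← hxv] at hz
      simp only [map_mul, map_inv] at hz ⊢
      calc π c * π x * (π c)⁻¹ * π n = π c * (π x * ((π c)⁻¹ * π n * π c)) * (π c)⁻¹ := by group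
        _ = π c * (((π c)⁻¹ * π n * π c) * π x) * (π c)⁻¹ := by rw [hz]
        _ = _ := by group
  refine ⟨p, hp, hpow, hab, ⟨(orderOf g).factorization p, ?_⟩, ?_⟩
  · set r := ordCompl[p] (orderOf g) with hr
    have hr0 : orderOf g ≠ 0 := (orderOf_pos g).ne'
    have h1 : g ^ r ∉ K := fun hh => by
      have h2 : π g ^ r = 1 := by rw [← map_pow]; exact (QuotientGroup.eq_one_iff _).mpr hh
      have := orderOf_dvd_of_pow_eq_one h2
      rw [hgp] at this
      exact Nat.not_dvd_ordCompl hp hr0 this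
    obtain ⟨c, hc⟩ := isConj_iff.mp (h.isConj_iff_mem.mpr ⟨pow_mem h.mem_commutator r, h1⟩)
    have h2 : orderOf (g ^ r) = orderOf g := by
      rw [← hc, orderOf_conj]
    have hrd : r ∣ orderOf g := Nat.ordCompl_dvd _ _
    rw [orderOf_pow_of_dvd (fun e => h1 (by rw [e, pow_zero]; exact one_mem K)) hrd] at h2
    have hr1 : r = 1 := by
      have h4 := Nat.div_mul_cancel hrd
      rw [h2] at h4
      exact (Nat.mul_eq_left hr0).mp h4
    have := Nat.ordProj_mul_ordCompl_eq_self (orderOf g) p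
    rw [← hr, hr1, mul_one] at this
    exact this.symm
  · obtain ⟨j, hj⟩ := hV.exists_card_eq
    refine ⟨j, ?_⟩
    rw [← hj]
    have h1 := card_map_mk' K h.ker_le (H := N)
    have h2 := relIndex_mul_card_eq h.ker_le
    exact Nat.eq_of_mul_eq_mul_right Nat.card_pos (h2.trans h1.symm)

theorem class_card (h : Seen g χ) :
    Nat.card {x // IsConj g x} + Nat.card (BC87.kerChar χ) = Nat.card (commutator G) := by
  have e : {x : G | IsConj g x} = (commutator G : Set G) \ (BC87.kerChar χ : Set G) := by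
    ext x; exact h.isConj_iff_mem
  have h1 : Nat.card {x // IsConj g x} = ((commutator G : Set G) \ (BC87.kerChar χ : Set G)).ncard := by
    rw [← e, ← Nat.card_coe_set_eq]; rfl
  rw [h1]
  exact Set.ncard_sdiff_add_ncard_of_subset (s := (BC87.kerChar χ : Set G)) h.ker_le

/-- `χ(1)² = a(m - 1)` and `|C(g)|(m - 1) = am`. -/
theorem numbers (h : Seen g χ) {m : ℕ}
    (hm : (BC87.kerChar χ).relIndex (commutator G) = m + 1) :
    Cfsg.charDegree (χ : G → ℂ) ^ 2 = (commutator G).index * m ∧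
      Nat.card (Subgroup.centralizer ({g} : Set G)) * m = (commutator G).index * (m + 1) := by
  set a := (commutator G).index
  set d := Cfsg.charDegree (χ : G → ℂ)
  set c := Nat.card (Subgroup.centralizer ({g} : Set G))
  set k := Nat.card (BC87.kerChar χ)
  have hk0 : 0 < k := Nat.card_pos
  have hN : Nat.card (commutator G) = (m + 1) * k := by
    rw [← hm]; exact (relIndex_mul_card_eq h.ker_le).symm
  have hcl : Nat.card {x // IsConj g x} = m * k := by
    have := h.class_card
    rw [hN, add_one_mul] at this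
    exact Nat.add_right_cancel this
  have hG : Nat.card G = a * ((m + 1) * k) := by rw [← hN, Subgroup.index_mul_card]
  have h2 : c * m = a * (m + 1) := by
    have := BC87.card_isConj_mul_card_centralizer g
    rw [hcl, hG] at this
    refine Nat.eq_of_mul_eq_mul_right hk0 ?_
    linarith
  refine ⟨?_, h2⟩
  have h1 : (c : ℂ) = (a : ℂ) + (χ : G → ℂ) g * conj ((χ : G → ℂ) g) := by
    rw [← BC87.sum_norm_sq_eq_card_centralizer g, h.column g, mul_inv_cancel, if_pos (one_mem _)]
  rw [h.conj_value, h.value, BC87.apply_one_eq] at h1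
  have hd : (d : ℂ) ≠ 0 := Nat.cast_ne_zero.mpr (BC87.charDegree_pos χ).ne'
  have ha : (a : ℂ) ≠ 0 := Nat.cast_ne_zero.mpr Subgroup.index_ne_zero_of_finite
  have h2' : (c : ℂ) * m = (a : ℂ) * ((m : ℂ) + 1) := by exact_mod_cast h2
  have key : ((d ^ 2 : ℕ) : ℂ) = ((a * m : ℕ) : ℂ) := by
    push_cast
    have h1' : (c : ℂ) * (d : ℂ) ^ 2 = (a : ℂ) * (d : ℂ) ^ 2 + (a : ℂ) * a := by
      rw [show ((commutator G).index : ℂ) = (a : ℂ) from rfl,
        show (Cfsg.charDegree (χ : G → ℂ) : ℂ) = (d : ℂ) from rfl] at h1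
      rw [h1]; field_simp
    refine mul_left_cancel₀ ha ?_
    linear_combination (-(d : ℂ) ^ 2) * h2' + (m : ℂ) * h1'
  exact_mod_cast key

theorem dvd_degree (h : Seen g χ) {p : ℕ} [Fact p.Prime] {k : ℕ} (hk : orderOf g = p ^ k)
    (ψ : Cfsg.IrrCharacter G) (h1 : (ψ : G → ℂ) 1 ≠ 1) (hne : ψ ≠ χ) :
    p ∣ Cfsg.charDegree (ψ : G → ℂ) :=
  dvd_degree_of_eq_zero ψ (hk ▸ pow_orderOf_eq_one g) (h.other ψ h1 hne)

theorem eq_one_of_commute (h : Seen g χ) {p k : ℕ} [hp : Fact p.Prime] (hk : orderOf g = p ^ k)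
    {x : G} (hx : x ∈ commutator G) (hd : ¬ p ∣ orderOf x) (hc : Commute g x) : x = 1 := by
  have hxK : x ∈ BC87.kerChar χ := by
    by_contra hn
    obtain ⟨c, hcx⟩ := isConj_iff.mp (h.isConj_iff_mem.mpr ⟨hx, hn⟩)
    rw [← hcx, orderOf_conj, hk] at hd
    rcases k with _ | k
    · exact h.ne_one (orderOf_eq_one_iff.mp (by rw [hk, pow_zero]))
    · exact hd (dvd_pow_self p k.succ_ne_zero)
  have hgx : g * x ∈ commutator G ∧ g * x ∉ BC87.kerChar χ :=
    ⟨mul_mem h.mem_commutator hx, fun hh => h.not_mem_ker (by simpa using mul_mem hh (inv_mem hxK))⟩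
  obtain ⟨c, hcx⟩ := isConj_iff.mp (h.isConj_iff_mem.mpr hgx)
  have ho : orderOf (g * x) = orderOf g := by
    rw [← hcx, orderOf_conj]
  rw [hc.orderOf_mul_eq_mul_orderOf_of_coprime (by
    rw [hk]; exact Nat.Coprime.pow_left _ (hp.out.coprime_iff_not_dvd.mpr hd))] at ho
  exact orderOf_eq_one_iff.mp ((Nat.mul_eq_left (orderOf_pos g).ne').mp ho)

/-- Outside `G'` nothing is central modulo the kernel. -/
theorem not_central (h : Seen g χ) {x : G} (hx : x ∉ commutator G) :
    ∃ y : G, ⁅x, y⁆ ∉ BC87.kerChar χ := by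
  by_contra hc
  push Not at hc
  set K := BC87.kerChar χ
  have h1 := h.card_centralizer_quotient hx
  have htop : Subgroup.centralizer ({(x : G ⧸ K)} : Set (G ⧸ K)) = ⊤ := by
    refine top_le_iff.mp fun y _ => ?_
    obtain ⟨y, rfl⟩ := QuotientGroup.mk'_surjective K y
    rw [Subgroup.mem_centralizer_singleton_iff]
    refine (commutatorElement_eq_one_iff_mul_comm.mp ?_).symm
    show ⁅QuotientGroup.mk' K x, QuotientGroup.mk' K y⁆ = 1
    rw [← map_commutatorElement]
    exact (QuotientGroup.eq_one_iff _).mpr (hc y)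
  rw [htop, Subgroup.card_top, ← Subgroup.index_eq_card, ← Subgroup.relIndex_mul_index h.ker_le] at h1
  have h2 : K.relIndex (commutator G) = 1 :=
    (Nat.mul_eq_right Subgroup.index_ne_zero_of_finite).mp h1
  exact h.not_mem_ker (Subgroup.relIndex_eq_one.mp h2 h.mem_commutator)

theorem degree_of_irr_commutator (h : Seen g χ) {p : ℕ} [hp : Fact p.Prime] {k : ℕ}
    (hk : orderOf g = p ^ k) (hab : ⁅commutator G, commutator G⁆ ≤ BC87.kerChar χ)
    (hpa : ¬ p ∣ (commutator G).index) (θ : Cfsg.IrrCharacter (commutator G))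
    (hθ : ¬ p ∣ Cfsg.charDegree (θ : commutator G → ℂ)) :
    Cfsg.charDegree (θ : commutator G → ℂ) = 1 := by
  have := Fintype.ofFinite G
  have := Fintype.ofFinite (commutator G)
  obtain ⟨ψ, hψ⟩ := RelGraph.exists_over_irr (commutator G) θ.2
  obtain ⟨hdvd, hidx⟩ := CharB.degree_dvd (commutator G) ψ.2 θ.2 hψ (BC87.apply_one_eq ψ) (BC87.apply_one_eq θ)
  by_cases h1 : (ψ : G → ℂ) 1 = 1
  · rw [BC87.charDegree_eq (n := 1) (χ := (ψ : G → ℂ)) (by rw [h1, Nat.cast_one])] at hdvd
    exact Nat.dvd_one.mp hdvd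
  by_cases hne : ψ = χ
  · subst hne
    set K := BC87.kerChar ψ with hKdef
    have : (K.subgroupOf (commutator G)).Normal := inferInstance
    have hcomm : IsMulCommutative ((commutator G) ⧸ K.subgroupOf (commutator G)) := ⟨⟨fun a b => by
      obtain ⟨a, rfl⟩ := QuotientGroup.mk'_surjective _ a
      obtain ⟨b, rfl⟩ := QuotientGroup.mk'_surjective _ b
      refine commutatorElement_eq_one_iff_mul_comm.mp ?_
      rw [← map_commutatorElement]
      exact (QuotientGroup.eq_one_iff _).mpr (Subgroup.mem_subgroupOf.mpr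
        (hab (Subgroup.commutator_mem_commutator a.2 b.2)))⟩⟩
    letI : CommGroup ((commutator G) ⧸ K.subgroupOf (commutator G)) :=
      { (inferInstance : Group ((commutator G) ⧸ K.subgroupOf (commutator G))) with mul_comm := fun a b => hcomm.1.1 a b }
    have : NeZero ((Monoid.exponent ((commutator G) ⧸ K.subgroupOf (commutator G)) : ℕ) : ℂ) :=
      ⟨by exact_mod_cast Monoid.exponent_ne_zero_of_finite⟩
    obtain ⟨φ₀, hφ₀⟩ := CommGroup.exists_apply_ne_one_of_hasEnoughRootsOfUnity ((commutator G) ⧸ K.subgroupOf (commutator G)) ℂ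
      (a := QuotientGroup.mk' _ (⟨g, h.mem_commutator⟩ : (commutator G))) fun e =>
        h.not_mem_ker (Subgroup.mem_subgroupOf.mp ((QuotientGroup.eq_one_iff _).mp e))
    let φ : (commutator G) →* ℂˣ := φ₀.comp (QuotientGroup.mk' _)
    have hφ : (Units.coeHom ℂ).comp φ ≠ 1 := fun e => hφ₀ (Units.ext (DFunLike.congr_fun e ⟨g, h.mem_commutator⟩ :))
    have hφK : ∀ n : (commutator G), (n : G) ∈ K → (φ n : ℂ) = 1 := fun n hn => by
      show (φ₀ (QuotientGroup.mk' _ n) : ℂ) = 1
      rw [show QuotientGroup.mk' (K.subgroupOf (commutator G)) n = 1 from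
        (QuotientGroup.eq_one_iff n).mpr (Subgroup.mem_subgroupOf.mpr hn), map_one, Units.val_one]
    have hcon : Cfsg.classInner (fun n : (commutator G) => (ψ : G → ℂ) n) (fun n : (commutator G) => (φ n : ℂ)) ≠ 0 := by
      have e : ∀ n : (commutator G), (ψ : G → ℂ) n * conj (φ n : ℂ) = (ψ : G → ℂ) g * conj (φ n : ℂ) +
          (if (n : G) ∈ K then (ψ : G → ℂ) 1 - (ψ : G → ℂ) g else 0) := fun n => by
        split_ifs with hn
        · rw [BC87.mem_kerChar.mp hn, hφK n hn, map_one]; ring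
        · obtain ⟨c, hc⟩ := isConj_iff.mp (h.isConj_iff_mem.mpr ⟨n.2, hn⟩)
          rw [← hc, CharCore.irr_isClassFunction ψ, add_zero]
      have hsum : ∑ n : (commutator G), conj (φ n : ℂ) = 0 := by
        rw [← map_sum, show ∑ n : (commutator G), (φ n : ℂ) = 0 from sum_hom_units_eq_zero _ hφ, map_zero]
      rw [CharCore.classInner_def, Finset.sum_congr rfl fun n _ => e n, Finset.sum_add_distrib,
        ← Finset.mul_sum, hsum, mul_zero, zero_add, ← Finset.sum_filter, Finset.sum_const,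
        nsmul_eq_mul]
      refine mul_ne_zero (inv_ne_zero (Nat.cast_ne_zero.mpr Nat.card_pos.ne')) (mul_ne_zero
        (Nat.cast_ne_zero.mpr (Finset.card_ne_zero.mpr ⟨1, by simp⟩)) fun e0 => h.not_mem_ker ?_)
      exact BC87.mem_kerChar.mpr (sub_eq_zero.mp e0).symm
    obtain ⟨x, hx⟩ := CharClifford.exists_conjFun_eq_of_constituents (commutator G) ψ.2
      (CharCore.isIrrCharacter_hom φ) θ.2 hcon hψ
    refine BC87.charDegree_eq ?_
    rw [hx, Nat.cast_one, CharClifford.conjFun_apply]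
    simp only [OneMemClass.coe_one, mul_one, mul_inv_cancel]
    exact congrArg Units.val (map_one φ)
  · exfalso
    have hd := h.dvd_degree hk ψ h1 hne
    rw [← Nat.mul_div_cancel' hdvd] at hd
    rcases (Nat.Prime.dvd_mul hp.out).mp hd with hd | hd
    · exact hθ hd
    · exact hpa (hd.trans hidx)

theorem isSolvable (h : Seen g χ) : Group.IsSolvable G := by
  obtain ⟨p, hp, hpow, hab, ⟨k, hk⟩, ⟨j, hj⟩⟩ := h.exists_prime
  have hfact := Fact.mk hp
  set K := BC87.kerChar χ with hKdef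
  set N := commutator G with hNdef
  set a := N.index with ha
  have ha0 : a ≠ 0 := Subgroup.index_ne_zero_of_finite
  have hj0 : j ≠ 0 := fun e => by
    rw [e, pow_zero, Subgroup.relIndex_eq_one] at hj
    exact h.not_mem_ker (hj h.mem_commutator)
  obtain ⟨m, hm⟩ : ∃ m, p ^ j = m + 1 :=
    Nat.exists_eq_succ_of_ne_zero (pow_ne_zero _ hp.ne_zero)
  obtain ⟨hd2, hc⟩ := h.numbers (hj.trans hm)
  set d := Cfsg.charDegree (χ : G → ℂ)
  have hpm : ¬ p ∣ m := fun hd => hp.ne_one (Nat.dvd_one.mp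
    ((Nat.dvd_add_right hd).mp (hm ▸ dvd_pow_self p hj0)))
  have hma : m ∣ a := by
    have h1 : m ∣ a * (m + 1) := ⟨_, hc.symm.trans (mul_comm _ _)⟩
    exact (Nat.coprime_self_add_right.mpr (Nat.coprime_one_right m)).dvd_of_dvd_mul_right h1
  by_cases hpd : p ∣ d
  · have hall : ∀ ψ : Cfsg.IrrCharacter G, Cfsg.charDegree (ψ : G → ℂ) ≠ 1 →
        p ∣ Cfsg.charDegree (ψ : G → ℂ) := fun ψ hψ => by
      rcases eq_or_ne ψ χ with rfl | hne
      · exact hpd
      · exact h.dvd_degree hk ψ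
          (fun e => hψ (BC87.charDegree_eq (by rw [e, Nat.cast_one]))) hne
    obtain ⟨L, hLn, hLc, i, hi⟩ := S4456.result p hp hall
    have hordL : ∀ x ∈ L, ¬ p ∣ orderOf x := fun x hx hd =>
      hp.coprime_iff_not_dvd.mp hLc.symm (hd.trans (Subgroup.orderOf_mk x hx ▸
        orderOf_dvd_natCard (⟨x, hx⟩ : L)))
    have hLK' : ∀ x ∈ L, x ∈ N → x ∈ K := fun x hx hxN => by
      by_contra hxK
      obtain ⟨c, hcx⟩ := isConj_iff.mp (h.isConj_iff_mem.mpr ⟨hxN, hxK⟩)
      refine hordL x hx ?_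
      rw [← hcx, orderOf_conj, hk]
      refine dvd_pow_self p fun e => h.ne_one (orderOf_eq_one_iff.mp ?_)
      rw [hk, e, pow_zero]
    have hLN : L ≤ N := fun x hx => by
      by_contra hxN
      obtain ⟨y, hy⟩ := h.not_central hxN
      refine hy (hLK' _ ?_ (Subgroup.commutator_mem_commutator (Subgroup.mem_top x) (Subgroup.mem_top y)))
      have := mul_mem hx (hLn.conj_mem _ (inv_mem hx) y)
      simpa [commutatorElement_def, mul_assoc] using this
    have hLK : L ≤ K := fun x hx => hLK' x hx (hLN hx)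
    have hpa' : a ∣ p ^ i := hi ▸ Subgroup.index_dvd_of_le hLN
    obtain ⟨t, -, ht⟩ := (Nat.dvd_prime_pow hp).mp (hma.trans hpa')
    have hm1 : m = 1 := by
      rcases t with _ | t
      · simpa using ht
      · exact absurd (ht ▸ dvd_pow_self p t.succ_ne_zero) hpm
    have hp2 : p = 2 := by
      rw [hm1] at hm
      have h1 : p ∣ 2 := by
        rw [show (2 : ℕ) = 1 + 1 from rfl, ← hm]; exact dvd_pow_self p hj0
      exact (Nat.prime_dvd_prime_iff_eq hp Nat.prime_two).mp h1
    subst hp2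
    have := isSolvable_of_odd L (Nat.prime_two.coprime_iff_not_dvd.mp hLc.symm)
    obtain ⟨t', -, ht'⟩ := (Nat.dvd_prime_pow Nat.prime_two).mp
      (hi ▸ Dvd.intro _ (Subgroup.relIndex_mul_index hLN) : L.relIndex N ∣ 2 ^ i)
    exact isSolvable_of_series L N hLN ht' le_rfl
  -- the degree is prime to `p`
  have hpa : ¬ p ∣ a := fun hd => hpd (hp.dvd_of_dvd_pow (hd2 ▸ Dvd.dvd.mul_right hd m))
  obtain ⟨L, hLn, hLc, hLN, hmemL, i, hi⟩ := exists_complement (p := p) N (S4456.result p hp
    fun θ hθ => by_contra fun hd => hθ (h.degree_of_irr_commutator hk hab hpa θ hd))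
  by_cases hp2 : p = 2
  · subst hp2
    have := isSolvable_of_odd L hLc
    exact isSolvable_of_series L N hLN hi le_rfl
  suffices Group.IsNilpotent L by
    have : Group.IsSolvable L := inferInstance
    exact isSolvable_of_series L N hLN hi le_rfl
  let π := QuotientGroup.mk' K
  -- the centralizer of `g`
  have hCp : ∀ q : ℕ, q.Prime → q ∣ Nat.card (Subgroup.centralizer ({g} : Set G)) → q = p := by
    intro q hq hqd
    by_contra hqp
    have := Fact.mk hq
    obtain ⟨⟨x, hx⟩, hxq⟩ :=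
      exists_prime_orderOf_dvd_card' (G := Subgroup.centralizer ({g} : Set G)) q hqd
    rw [Subgroup.orderOf_mk] at hxq
    have hxc : g * x = x * g := (Subgroup.mem_centralizer_singleton_iff.mp hx).symm
    have hxN : x ∉ N := fun hh => by
      have := h.eq_one_of_commute hk hh
        (fun hd => hqp ((Nat.prime_dvd_prime_iff_eq hp hq).mp (hxq ▸ hd)).symm) hxc
      rw [this, orderOf_one] at hxq
      exact hq.one_lt.ne hxq
    obtain ⟨y, hy⟩ := h.not_central hxN
    have hV : ∀ n ∈ N, π x * π n = π n * π x := by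
      intro n hn
      by_cases hnK : n ∈ K
      · rw [show π n = 1 from (QuotientGroup.eq_one_iff n).mpr hnK, mul_one, one_mul]
      obtain ⟨c, rfl⟩ := isConj_iff.mp (h.isConj_iff_mem.mpr ⟨hn, hnK⟩)
      set t := ⁅c⁻¹, x⁆ with ht
      have htN : t ∈ N :=
        Subgroup.commutator_mem_commutator (Subgroup.mem_top _) (Subgroup.mem_top _)
      have h1 : π t * π g = π g * π t := by
        refine commutatorElement_eq_one_iff_mul_comm.mp ?_
        rw [← map_commutatorElement]
        exact (QuotientGroup.eq_one_iff _).mpr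
          (hab (Subgroup.commutator_mem_commutator htN h.mem_commutator))
      have h2 : π x * π g = π g * π x := by rw [← map_mul, ← map_mul, hxc]
      have h3 : π x = π c * (π t * π x) * (π c)⁻¹ := by
        simp only [ht, commutatorElement_def, map_mul, map_inv]; group
      simp only [map_mul, map_inv]
      calc π x * (π c * π g * (π c)⁻¹) = π c * (π t * (π x * π g)) * (π c)⁻¹ := by
            conv_lhs => rw [h3]
            group
        _ = π c * ((π t * π g) * π x) * (π c)⁻¹ := by rw [h2, mul_assoc (π t)]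
        _ = π c * π g * (π c)⁻¹ * (π c * (π t * π x) * (π c)⁻¹) := by rw [h1]; group
        _ = _ := by rw [← h3]
    have hcN : ⁅x, y⁆ ∈ N :=
      Subgroup.commutator_mem_commutator (Subgroup.mem_top x) (Subgroup.mem_top y)
    have h4 : π ⁅x, y⁆ ^ p = 1 := by
      rw [← map_pow]; exact (QuotientGroup.eq_one_iff _).mpr (hpow _ hcN)
    have h5 : π ⁅x, y⁆ ^ q = 1 := by
      have hcc : Commute (π ⁅x, y⁆⁻¹) (π x) := by
        rw [map_inv]
        exact (show Commute (π x) (π ⁅x, y⁆) from hV _ hcN).symm.inv_left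
      have e : π (y * x * y⁻¹) = π ⁅x, y⁆⁻¹ * π x := by
        rw [← map_mul]; congr 1; simp [commutatorElement_def, mul_assoc]
      have e2 := congrArg (· ^ q) e
      simp only [hcc.mul_pow, ← map_pow, conj_pow] at e2
      have hxq' : x ^ q = 1 := hxq ▸ pow_orderOf_eq_one x
      rw [hxq', mul_one, mul_inv_cancel, map_one, mul_one, inv_pow, map_inv, map_pow,
        eq_comm, inv_eq_one] at e2
      exact e2
    have h6 : orderOf (π ⁅x, y⁆) ∣ 1 := by
      rw [← Nat.Coprime.gcd_eq_one ((Nat.coprime_primes hp hq).mpr (Ne.symm hqp))]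
      exact Nat.dvd_gcd (orderOf_dvd_of_pow_eq_one h4) (orderOf_dvd_of_pow_eq_one h5)
    exact hy ((QuotientGroup.eq_one_iff _).mp (orderOf_eq_one_iff.mp (Nat.dvd_one.mp h6)))
  obtain ⟨i', hi'⟩ : ∃ i', Nat.card (Subgroup.centralizer ({g} : Set G)) = p ^ i' :=
    ⟨_, Nat.eq_prime_pow_of_unique_prime_dvd Nat.card_pos.ne' fun {q} hq hqd => hCp q hq hqd⟩
  have hij : i' = j := by
    rw [hi', ← hm, show (commutator G).index = a from rfl] at hc
    have hm0 : m ≠ 0 := fun e => hpm (e ▸ dvd_zero p)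
    have h1 := congrArg (fun n => n.factorization p) hc
    simp only [Nat.factorization_mul (pow_ne_zero _ hp.ne_zero) hm0,
      Nat.factorization_mul ha0 (pow_ne_zero _ hp.ne_zero), Finsupp.add_apply,
      Nat.factorization_eq_zero_of_not_dvd hpm, Nat.factorization_eq_zero_of_not_dvd hpa,
      hp.factorization_pow, Finsupp.single_eq_same, zero_add, add_zero] at h1
    exact h1
  rw [hij] at hi'
  have hCN : Subgroup.centralizer ({g} : Set G) ≤ N := fun x hx => by
    obtain ⟨e, he⟩ := exists_pow_eq_self_of_coprime (x := x) (n := a) ((Nat.Coprime.pow_right j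
      (hp.coprime_iff_not_dvd.mpr hpa).symm).coprime_dvd_right (hi' ▸ Subgroup.orderOf_mk x hx ▸
        orderOf_dvd_natCard (⟨x, hx⟩ : Subgroup.centralizer ({g} : Set G))))
    exact he ▸ N.pow_mem (N.pow_index_mem x) e
  -- cosets are classes in `N`
  have hcls : ∀ z ∈ N, z ∉ K → ∀ k ∈ K, ∃ y ∈ N, y * z * y⁻¹ = z * k := by
    have hbase : ∀ k ∈ K, ∃ y ∈ N, y * g * y⁻¹ = g * k := by
      have hsub : ∀ x : {x : N // IsConj (⟨g, h.mem_commutator⟩ : N) x}, g⁻¹ * (x.1 : G) ∈ K := by
        rintro ⟨x, hx⟩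
        obtain ⟨y, rfl⟩ := isConj_iff.mp hx
        refine hab ?_
        have := Subgroup.commutator_mem_commutator (inv_mem h.mem_commutator) y.2
        convert this using 1
        simp [commutatorElement_def, mul_assoc]
      let f : {x : N // IsConj (⟨g, h.mem_commutator⟩ : N) x} → K := fun x => ⟨_, hsub x⟩
      have hinj : Function.Injective f := fun x y e =>
        Subtype.ext (Subtype.ext (mul_left_cancel (congrArg Subtype.val e)))
      have hcard : Nat.card {x : N // IsConj (⟨g, h.mem_commutator⟩ : N) x} = Nat.card K := by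
        have h1 := BC87.card_isConj_mul_card_centralizer (⟨g, h.mem_commutator⟩ : N)
        have h2 : Nat.card (Subgroup.centralizer ({(⟨g, h.mem_commutator⟩ : N)} : Set N)) = p ^ j := by
          rw [← hi', ← Nat.card_congr (Subgroup.subgroupOfEquivOfLe hCN).toEquiv]
          refine congrArg (fun H : Subgroup N => Nat.card H) ?_
          ext x
          simp [Subgroup.mem_subgroupOf, Subgroup.mem_centralizer_singleton_iff, Subtype.ext_iff]
        rw [h2, ← relIndex_mul_card_eq h.ker_le, hj, mul_comm (p ^ j)] at h1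
        exact Nat.eq_of_mul_eq_mul_right (pow_pos hp.pos j) h1
      intro k hk
      obtain ⟨⟨x, hx⟩, he⟩ := (hinj.bijective_of_nat_card_le hcard.ge).2 ⟨k, hk⟩
      obtain ⟨y, rfl⟩ := isConj_iff.mp hx
      refine ⟨y, y.2, ?_⟩
      have := congrArg Subtype.val he
      simp only [f, Subgroup.coe_mul, Subgroup.coe_inv] at this
      rw [← this]; group
    intro z hz hzK k hk
    obtain ⟨c, rfl⟩ := isConj_iff.mp (h.isConj_iff_mem.mpr ⟨hz, hzK⟩)
    obtain ⟨y, hy, e⟩ := hbase (c⁻¹ * k * c)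
      (by simpa using (BC87.kerChar_normal χ).conj_mem k hk c⁻¹)
    refine ⟨c * y * c⁻¹, (inferInstance : (commutator G).Normal).conj_mem y hy c, ?_⟩
    calc c * y * c⁻¹ * (c * g * c⁻¹) * (c * y * c⁻¹)⁻¹ = c * (y * g * y⁻¹) * c⁻¹ := by group
      _ = _ := by rw [e]; group
  have hKd : K = ⁅N, N⁆ := le_antisymm (fun k hk => by
    obtain ⟨y, hy, e⟩ := hcls g h.mem_commutator h.not_mem_ker k hk
    have := Subgroup.commutator_mem_commutator (inv_mem h.mem_commutator) hy
    convert this using 1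
    simp only [commutatorElement_def, inv_inv]
    rw [mul_assoc g⁻¹, mul_assoc g⁻¹, e]; group) hab
  have hLK : L ≤ K := fun x hx => by
    by_contra hxK
    obtain ⟨c, hcx⟩ := isConj_iff.mp (h.isConj_iff_mem.mpr ⟨hLN hx, hxK⟩)
    refine ((hmemL x).mp hx).2 ?_
    rw [← hcx, orderOf_conj, hk]
    refine dvd_pow_self p fun e => h.ne_one (orderOf_eq_one_iff.mp ?_)
    rw [hk, e, pow_zero]
  let ρ := QuotientGroup.mk' L
  have hnm : ∀ z, ρ z ∉ ⁅N.map ρ, N.map ρ⁆ → z ∉ K := fun z hz hzK => hz (by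
    rw [← Subgroup.map_commutator, ← hKd]; exact Subgroup.mem_map_of_mem ρ hzK)
  have hP : Camina p (N.map ρ) := by
    refine ⟨(inferInstance : (commutator G).Normal).map ρ (QuotientGroup.mk'_surjective L), ?_, ?_, ?_, ?_, ?_⟩
    · refine IsPGroup.of_card (n := i) ?_
      rw [← hi]
      exact Nat.eq_of_mul_eq_mul_right Nat.card_pos
        ((card_map_mk' L hLN).trans (relIndex_mul_card_eq hLN).symm)
    · rw [commutator_def, ← Subgroup.map_top_of_surjective ρ (QuotientGroup.mk'_surjective L),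
        ← Subgroup.map_commutator]
      exact le_rfl
    · rintro _ ⟨x, hx, rfl⟩
      rw [← Subgroup.map_commutator, ← hKd, ← map_pow]
      exact Subgroup.mem_map_of_mem ρ (hpow x hx)
    · rintro _ ⟨z, hz, rfl⟩ hz' k hk
      rw [← Subgroup.map_commutator, ← hKd] at hk
      obtain ⟨k, hk, rfl⟩ := hk
      obtain ⟨y, hy, e⟩ := hcls z hz (hnm z hz') k hk
      exact ⟨ρ y, Subgroup.mem_map_of_mem ρ hy, by simp only [← map_inv, ← map_mul, e]⟩
    · rintro _ ⟨z, hz, rfl⟩ hz' _ ⟨w, hw, rfl⟩ hw'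
      obtain ⟨c, hc⟩ := isConj_iff.mp ((h.isConj_iff_mem.mpr ⟨hz, hnm z hz'⟩).symm.trans
        (h.isConj_iff_mem.mpr ⟨hw, hnm w hw'⟩))
      refine ⟨ρ c, ?_⟩
      simp only [← map_inv, ← map_mul, hc, inv_mul_cancel, map_one]
      exact one_mem _
  have hgρ : ρ g ∉ ⁅N.map ρ, N.map ρ⁆ := by
    rw [← Subgroup.map_commutator, ← hKd]
    rintro ⟨u, hu, e⟩
    rw [QuotientGroup.mk'_eq_mk'] at e
    obtain ⟨l, hl, rfl⟩ := e
    exact h.not_mem_ker (mul_mem hu (hLK hl))
  have hgp : g ^ p = 1 := by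
    have h1 := hP.pow_eq_one hp hp2 (Subgroup.mem_map_of_mem ρ h.mem_commutator) hgρ
    rw [← map_pow] at h1
    have h2 : ¬ p ∣ orderOf (g ^ p) := ((hmemL _).mp ((QuotientGroup.eq_one_iff _).mp h1)).2
    have h3 : orderOf (g ^ p) ∣ p ^ k := hk ▸ orderOf_pow_dvd p
    obtain ⟨t, -, ht⟩ := (Nat.dvd_prime_pow hp).mp h3
    rcases t with _ | t
    · exact orderOf_eq_one_iff.mp (by rw [ht, pow_zero])
    · exact absurd (ht ▸ dvd_pow_self p t.succ_ne_zero) h2
  refine Frobenius.isNilpotent_of_fixedPointFree L (MulAut.conjNormal g) (fun x hx => ?_) hp ?_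
  · have h1 := congrArg Subtype.val hx
    rw [MulAut.conjNormal_apply] at h1
    refine Subtype.ext ?_
    exact h.eq_one_of_commute hk (hLN x.2) ((hmemL _).mp x.2).2 (mul_inv_eq_iff_eq_mul.mp h1)
  · rw [← map_pow, hgp, map_one]

end Seen

end Cfsg.Agent.BC86.OneNonlin
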